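import Cfsg.Agent.Lib.Fus.FusDr
import Cfsg.Agent.Lib.Fus.FusAb
import Cfsg.Agent.S0263

/-!
Saturated fusion systems on Heisenberg groups over finite fields with a nontrivial normal subgroup are realizable.
-/

set_option autoImplicit false

namespace CA.Fus

open Cfsg Subgroup CA.AmbSyl CA.AmbCore CA.AmbRes CA.AmbChar Relation
open Cfsg.FusionSystem (normalizerIn centralizerIn)
open scoped MatrixGroups

variable {Ω : Type*} [Group Ω] {S E U : Subgroup Ω} {F : FusionSystem S} {p : ℕ}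

/-- The commutator structure of a Heisenberg group over a field. -/
structure Heis (S : Subgroup Ω) : Prop where
  cls : ∀ x ∈ S, ∀ y ∈ S, x⁻¹ * (y * x * y⁻¹) ∈ zc S
  ab : ∀ x ∈ S, x ∉ zc S → ∀ y ∈ S, ∀ w ∈ S, x * y = y * x → x * w = w * x → y * w = w * y
  onto : ∀ x ∈ S, x ∉ zc S → ∀ z ∈ zc S, ∃ s ∈ S, s * x * s⁻¹ = x * z

variable [Finite S] [Fact p.Prime]

theorem Heis.ess (h : Heis S) (hS : IsPGroup p S) (hF : F.IsSaturated p) (hE : F.IsEssential p E) :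
    (∀ y ∈ E, ∀ w ∈ E, y * w = w * y) ∧ (U ≤ zc S → F.autGroup E ≤ stabA E U → U = ⊥) := by
  have l := lr_of_ess hS hF hE
  have := fin_le l.le
  have hZ : zc S ≤ E := l.zc_lt.le
  have := fin_le hZ
  have hn : S ≤ normalizer (E : Set Ω) := fun s hs => mem_normalizer_fintype fun x hx => by
    simpa using mul_mem hx (hZ (h.cls x (l.le hx) s hs))
  have h1 : ¬ F.autGroup E ≤ stabA E (zc S) := fun e => l.lt.not_ge fun s hs =>
    l.mem_of_two hS hs (hn hs) e (fun x hx => h.cls x (l.le hx) s hs) fun x _ hx => zc_conj hx hs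
  refine ⟨?_, fun hU h2 => ?_⟩
  · by_contra! e
    obtain ⟨y, hy, w, hw, e⟩ := e
    refine h1 (le_stab_of_top ((le_antisymm (fun x hx => ?_) fun x hx => ⟨hZ hx, fun a ha => hx.2 a (l.le ha)⟩ :
      zc E = zc S) ▸ stabA_zc E))
    by_contra h3
    exact e (h.ab x (l.le hx.1) h3 y (l.le hy) w (l.le hw) (hx.2 y hy).symm (hx.2 w hw).symm)
  have hA := sat_syl hS hF l.fn
  have h3 : ∀ b ∈ F.autGroup E, b ∈ stabA E (zc S) → (∃ k, b ^ p ^ k = 1) → ∀ x ∈ zc S, act b x = x := by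
    rintro b hb hb' ⟨k, hk⟩ x hx
    have h4 : autInducedBy S E ≤ F.autGroup E ⊓ stabA E (zc S) := le_inf hA.le fun α hα => by
      obtain ⟨s, hs, e⟩ := mem_autInd.1 hα
      exact mem_stabA_of_maps hZ fun x hx => by rwa [e x (hZ hx), zc_conj hx hs.1]
    have h5 := le_pCore_of_chain (hS.to_le l.le) h4 le_rfl (.tail (.single ⟨le_stab_of_top (stabA_bot E), inf_le_right,
      fun α hα x h5 hx => ?_⟩) ⟨inf_le_right, le_stab_of_top (stabA_self E), fun α hα x hx _ => ?_⟩)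
    · have h6 := hA.max (isPGroup_pCoreOf _ _) h5 ((pCoreOf_le _ _).trans inf_le_left)
      obtain ⟨s, hs, e⟩ := mem_autInd.1 (hA.le_of_norm' (isPGroup_zpowers hk) (zpowers_le.2 hb)
        (zpowers_le.2 (h6 ▸ norm_pCoreOf _ _ (show b ∈ F.autGroup E ⊓ _ from ⟨hb, hb'⟩))) (mem_zpowers b))
      rw [e x (hZ hx), zc_conj hx hs.1]
    · obtain ⟨s, hs, e⟩ := mem_autInd.1 hα
      rw [e x h5, zc_conj hx hs.1, inv_mul_cancel]; exact one_mem _
    · obtain ⟨s, hs, e⟩ := mem_autInd.1 hα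
      exact e x hx ▸ h.cls x (l.le hx) s hs.1
  by_contra h4
  obtain ⟨⟨u, hu⟩, hu'⟩ := ne_bot_iff_exists_ne_one.1 h4
  let C : MulAut E → Set Ω := fun g => {x | x ∈ zc S ∧ act g x ∈ zc S}
  have hC : ∀ g, (C g).Finite := fun g => (Set.toFinite (zc S : Set Ω)).subset fun _ hx => hx.1
  obtain ⟨g, ⟨hg, hg'⟩, hm⟩ := Set.exists_max_image {g | g ∈ F.autGroup E ∧ g ∉ stabA E (zc S)} (fun g => (C g).ncard)
    (Set.toFinite _) (SetLike.not_le_iff_exists.1 h1)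
  obtain ⟨y, hy, hy'⟩ : ∃ y ∈ zc S, act g⁻¹ y ∉ zc S := by
    by_contra! e
    exact hg' (inv_mem_iff.1 (mem_stabA_of_maps hZ e))
  have h5 := act_mem g⁻¹ (hZ hy)
  obtain ⟨s, hs, e⟩ := h.onto _ (l.le h5) hy' u (hU hu)
  have hb : g * cjA E s * g⁻¹ ∈ F.autGroup E := mul_mem (mul_mem hg (l.cjA_mem hs (hn hs))) (inv_mem hg)
  have h6 : act (g * cjA E s * g⁻¹) y = y * act g u := by
    rw [act_mul, act_mul, act_cjA (hn hs) h5, e, (homOn_act g).mul h5 (hZ (hU hu)), act_act_inv]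
  by_cases h7 : g * cjA E s * g⁻¹ ∈ stabA E (zc S)
  · obtain ⟨k, hk⟩ := isPGroup_iff_mem.1 hA.pg _ (cjA_mem_autInd hs (hn hs))
    rw [h3 _ hb h7 ⟨k, by rw [conj_pow, hk, mul_one, mul_inv_cancel]⟩ y hy, left_eq_mul] at h6
    exact hu' (Subtype.ext (act_inj g (h6.trans (homOn_act g).one.symm)))
  refine (hm _ ⟨hb, h7⟩).not_gt ?_
  rw [← Set.ncard_image_of_injective _ fun _ _ => act_inj g]
  refine Set.ncard_lt_ncard ⟨?_, fun h8 => ?_⟩ (hC _)
  · rintro _ ⟨x, hx, rfl⟩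
    exact ⟨hx.2, by rw [act_mul, act_mul, act_inv_act, act_cjA (hn hs) (hZ hx.1), zc_conj hx.1 hs]; exact hx.2⟩
  · obtain ⟨x, hx, rfl⟩ := h8 ⟨hy, h6 ▸ mul_mem hy (hU ((h2 hg u).2 hu))⟩
    exact hy' (by rw [act_inv_act]; exact hx.1)

theorem Heis.real (h : Heis S) (hS : IsPGroup p S) (hF : F.IsSaturated p) (h1 : F.core ≠ ⊥) : F.IsRealizable p := by
  have hU := core_normal F
  by_cases h2 : ∀ P, ¬ F.IsEssential p P
  · exact real_of_top hS hF (normal_top_of_no_ess hS hF h2)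
  push Not at h2
  obtain ⟨E, hE⟩ := h2
  obtain ⟨x, hx, hx'⟩ := SetLike.not_le_iff_exists.1 fun e =>
    h1 ((h.ess hS hF hE).2 e (aut_le_stab_sc (normal_sc hU) E))
  have h3 : ∀ P, F.IsEssential p P → P = centralizerIn S F.core := fun P hP => by
    have l := lr_of_ess hS hF hP
    have h4 := normal_le_cr hS hU (centric_self_le hP.1) (essential_radical hS hP)
    have h5 := (h.ess (U := ⊥) hS hF hP).1
    exact le_antisymm (fun y hy => ⟨l.le hy, fun w hw => h5 w (h4 hw) y hy⟩) fun y hy => l.cent hy.1 fun w hw =>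
      h.ab x (hU.1 hx) hx' w (l.le hw) y hy.1 (h5 x (h4 hx) w hw) (hy.2 x hx)
  refine real_of_normal hS hF (normal_of_ess hS hF (Q := E) ?_) (centric_self_le hE.1)
  rintro P (rfl | hP)
  · have := fin_le hE.1.1
    refine ⟨hE.1.1, fun α hα => (mem_stabA_iff_img hE.1.1).1 (mem_stabA_of_maps hE.1.1 ?_)⟩
    rw [h3 E hE]
    refine fun y hy => ⟨act_mem α hy.1, fun w hw => ?_⟩
    have h4 := (aut_le_stab_sc (normal_sc hU) _ (inv_mem hα) w).2 hw
    rw [← act_act_inv α w, ← (homOn_act α).mul (hU.1 h4) hy.1, ← (homOn_act α).mul hy.1 (hU.1 h4), hy.2 _ h4]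
  · rw [(h3 P hP).trans (h3 E hE).symm]
    exact ⟨le_rfl, fun α _ => img_act α⟩

theorem heis_of {K : Type*} [Field K] (u : K → K → K → Ω) (h1 : ∀ x, x ∈ S ↔ ∃ a b c, x = u a b c)
    (h2 : ∀ a b c a' b' c', u a b c * u a' b' c' = u (a + a') (b + b') (c + c' + a * b'))
    (h3 : ∀ a b c a' b' c', u a b c = u a' b' c' → a = a' ∧ b = b' ∧ c = c') : Heis S := by
  have h4 : ∀ a b c a' b' c', u a b c * u a' b' c' = u a' b' c' * u a b c ↔ a * b' = a' * b := fun a b c a' b' c' => by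
    rw [h2, h2]
    exact ⟨fun e => by linear_combination (h3 _ _ _ _ _ _ e).2.2, fun e => by congr 1 <;> first | ring1 | linear_combination e⟩
  have h5 : ∀ a b c, u a b c ∈ zc S ↔ a = 0 ∧ b = 0 := fun a b c => ⟨fun h => ⟨by
      simpa using ((h4 _ _ _ _ _ _).1 (h.2 _ ((h1 _).2 ⟨0, 1, 0, rfl⟩))).symm, by
      simpa using (h4 _ _ _ _ _ _).1 (h.2 _ ((h1 _).2 ⟨1, 0, 0, rfl⟩))⟩, fun h => ⟨(h1 _).2 ⟨_, _, _, rfl⟩, fun y hy => by
    obtain ⟨a', b', c', rfl⟩ := (h1 y).1 hy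
    exact (h4 _ _ _ _ _ _).2 (by simp [h])⟩⟩
  have h6 : ∀ a b c a' b' c', u a' b' c' * u a b c * (u a' b' c')⁻¹ = u a b c * u 0 0 (a' * b - a * b') :=
    fun a b c a' b' c' => by rw [mul_inv_eq_iff_eq_mul, h2, h2, h2]; congr 1 <;> ring
  refine ⟨fun x hx y hy => ?_, fun x hx hx' y hy w hw => ?_, fun x hx hx' z hz => ?_⟩ <;>
    obtain ⟨a, b, c, rfl⟩ := (h1 x).1 hx
  · obtain ⟨a', b', c', rfl⟩ := (h1 y).1 hy
    rw [h6, inv_mul_cancel_left]
    exact (h5 _ _ _).2 ⟨rfl, rfl⟩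
  · obtain ⟨a', b', c', rfl⟩ := (h1 y).1 hy
    obtain ⟨a'', b'', c'', rfl⟩ := (h1 w).1 hw
    rw [h4, h4, h4]
    rcases not_and_or.1 (mt (h5 _ _ _).2 hx') with e | e <;> refine fun e1 e2 => mul_left_cancel₀ e ?_
    · linear_combination a' * e2 - a'' * e1
    · linear_combination b' * e2 - b'' * e1
  · obtain ⟨a', b', c', rfl⟩ := (h1 z).1 hz.1
    obtain ⟨rfl, rfl⟩ := (h5 _ _ _).1 hz
    rcases not_and_or.1 (mt (h5 _ _ _).2 hx') with e | e
    · exact ⟨_, (h1 _).2 ⟨0, -c' / a, 0, rfl⟩, by rw [h6]; congr; field_simp; ring⟩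
    · exact ⟨_, (h1 _).2 ⟨c' / b, 0, 0, rfl⟩, by rw [h6]; congr; field_simp; ring⟩

variable {K : Type*} [Field K]

/-- The upper unitriangular matrices of degree three. -/
def ut3 (a b c : K) : SL(3, K) := ⟨!![1, a, c; 0, 1, b; 0, 0, 1], by simp [Matrix.det_fin_three]⟩

theorem ut3_mul (a b c a' b' c' : K) : ut3 a b c * ut3 a' b' c' = ut3 (a + a') (b + b') (c + c' + a * b') :=
  Subtype.ext (by
    rw [Matrix.SpecialLinearGroup.coe_mul]
    ext i j; fin_cases i <;> fin_cases j <;> simp [ut3, Matrix.mul_apply, Fin.sum_univ_three] <;> ring)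

theorem ut3_inj {a b c a' b' c' : K} (h : ut3 a b c = ut3 a' b' c') : a = a' ∧ b = b' ∧ c = c' :=
  ⟨congrArg (fun g => g.1 0 1) h, congrArg (fun g => g.1 1 2) h, congrArg (fun g => g.1 0 2) h⟩

theorem ut3_zero : ut3 (0 : K) 0 0 = 1 := Subtype.ext (by ext i j; fin_cases i <;> fin_cases j <;> simp [ut3])

/-- The group of upper unitriangular matrices of degree three. -/
def UT3 (K : Type*) [Field K] : Subgroup SL(3, K) where
  carrier := {g | ∃ a b c, g = ut3 a b c}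
  one_mem' := ⟨0, 0, 0, ut3_zero.symm⟩
  mul_mem' := by rintro _ _ ⟨a, b, c, rfl⟩ ⟨a', b', c', rfl⟩; exact ⟨_, _, _, ut3_mul ..⟩
  inv_mem' := by
    rintro _ ⟨a, b, c, rfl⟩
    exact ⟨-a, -b, a * b - c, inv_eq_of_mul_eq_one_right (by rw [ut3_mul, ← ut3_zero]; congr 1 <;> ring)⟩

theorem heis_SL3 [Fintype K] [CharP K p] (T : Sylow p SL(3, K)) (e : S ≃* (T : Subgroup SL(3, K))) : Heis S := by
  obtain ⟨n, -, hn⟩ := FiniteField.card K p
  have h1 : Nat.card (UT3 K) = Fintype.card K ^ 3 := by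
    rw [← Nat.card_congr (Equiv.ofBijective (fun x : K × K × K => (⟨ut3 x.1 x.2.1 x.2.2, _, _, _, rfl⟩ : UT3 K))
      ⟨fun x y e => by simpa [Prod.ext_iff] using ut3_inj (congrArg Subtype.val e),
        by rintro ⟨_, a, b, c, rfl⟩; exact ⟨(a, b, c), rfl⟩⟩)]
    simp [pow_succ, mul_assoc]
  obtain ⟨R⟩ : Nonempty (Sylow p (GL (Fin 3) K)) := inferInstance
  have h2 := (sylIn_top R).card_le (T.isPGroup'.map Matrix.SpecialLinearGroup.toGL) le_top
  rw [card_map_of_injective Matrix.SpecialLinearGroup.toGL_injective, Cfsg.Agent.S0263.result rfl p 3 R] at h2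
  obtain ⟨g, -, hg⟩ := ((sylIn_top T).of_card_le (IsPGroup.of_card (by rw [h1, hn, ← pow_mul])) le_top
    (h1 ▸ h2)).exists_conj (sylIn_top T)
  let θ : UT3 K ≃* S := (((MulAut.conj g).subgroupMap _).trans (MulEquiv.subgroupCongr hg)).trans e.symm
  refine heis_of (fun a b c => θ ⟨ut3 a b c, a, b, c, rfl⟩) (fun x => ⟨fun hx => ?_, ?_⟩) (fun _ _ _ _ _ _ => ?_)
    fun _ _ _ _ _ _ e => ut3_inj (congrArg Subtype.val (θ.injective (Subtype.ext e)))
  · obtain ⟨⟨_, a, b, c, rfl⟩, h⟩ := θ.surjective ⟨x, hx⟩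
    exact ⟨a, b, c, (congrArg Subtype.val h).symm⟩
  · rintro ⟨a, b, c, rfl⟩
    exact SetLike.coe_mem _
  · rw [← coe_mul, ← map_mul]
    exact congrArg (fun x => (θ x : Ω)) (Subtype.ext (ut3_mul ..))

end CA.Fus
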