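import Cfsg.Agent.Lib.Odd.BG4x1
import Cfsg.Agent.Lib.Odd.BG1a
import Cfsg.Agent.Lib.Loc.H6Basic
import Cfsg.Agent.Lib.Grp.PGClassTwo

/-!
Generators of `p`-groups: a `p`-group acting faithfully on an abelian group of order `p ^ a` has abelianization
of order at most `p ^ (a * a / 4)`; Thompson's bound for groups whose elements of order `p` are central.
-/

set_option autoImplicit false
set_option linter.unusedSectionVars false
set_option linter.style.haveILetI false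

namespace CA.FusPat

open Subgroup Cfsg CA.OQuo CA.BG CA.BG4
open scoped commutatorElement

section lin

variable {G : Type*} [Group G] {p b : ℕ} {A F H K K' R S T W : Subgroup G}

theorem relIndex_le_of_fun [Finite G] {W0 W1 : Subgroup G} (f : G → G) (h1 : ∀ s ∈ S, f s ∈ W1)
    (h2 : ∀ s ∈ S, ∀ s' ∈ S, (f s)⁻¹ * f s' ∈ W0 → s⁻¹ * s' ∈ K) : K.relIndex S ≤ W0.relIndex W1 := by
  refine Nat.card_le_card_of_injective (fun q : S ⧸ K.subgroupOf S =>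
    (QuotientGroup.mk ⟨f q.out, h1 _ q.out.2⟩ : W1 ⧸ W0.subgroupOf W1)) fun q q' h => ?_
  rw [← q.out_eq, ← q'.out_eq]
  have h3 := (QuotientGroup.eq (s := W0.subgroupOf W1)).1 h
  exact QuotientGroup.eq.2 (h2 _ q.out.2 _ q'.out.2 h3)

/-- the elements of `S` whose commutators with `T` lie in `W` -/
def kk (S W T : Subgroup G) : Subgroup G := closure {s | s ∈ S ∧ ∀ t ∈ T, ⁅s, t⁆ ∈ W}

theorem kk_le : kk S W T ≤ S := (closure_le _).2 fun _ h => h.1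

theorem le_kk (h1 : K ≤ S) (h2 : ⁅K, T⁆ ≤ W) : K ≤ kk S W T := fun _ hx =>
  subset_closure ⟨h1 hx, fun _ ht => h2 (commutator_mem_commutator hx ht)⟩

theorem mem_kk (hn : S ≤ 𝓝(W)) {s : G} : s ∈ kk S W T ↔ s ∈ S ∧ ∀ t ∈ T, ⁅s, t⁆ ∈ W := by
  refine ⟨fun h => ⟨kk_le h, fun t ht => ?_⟩, fun h => subset_closure h⟩
  exact (mem_cmod.1 (((closure_le _).2 fun x hx => mem_cmod.2 ⟨hx.1, hx.2 t ht⟩ :
    kk S W T ≤ cmod S W hn t) h)).2

theorem comm_kk (hn : S ≤ 𝓝(W)) : ⁅kk S W T, T⁆ ≤ W :=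
  commutator_le.2 fun _ hx t ht => ((mem_kk hn).1 hx).2 t ht

theorem kk_anti {T' : Subgroup G} (h : T ≤ T') : kk S W T' ≤ kk S W T :=
  closure_mono fun _ hx => ⟨hx.1, fun t ht => hx.2 t (h ht)⟩

theorem kk_mono {W' : Subgroup G} (h : W ≤ W') : kk S W T ≤ kk S W' T :=
  closure_mono fun _ hx => ⟨hx.1, fun t ht => h (hx.2 t ht)⟩

theorem norm_kk [Finite G] (h1 : H ≤ 𝓝(W)) (h2 : H ≤ 𝓝(T)) : H ≤ 𝓝(kk H W T) := by
  refine norm_closure fun g hg x hx => ⟨mul_mem (mul_mem hg hx.1) (inv_mem hg), fun t ht => ?_⟩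
  have e : ⁅g * x * g⁻¹, t⁆ = g * ⁅x, g⁻¹ * t * g⁆ * g⁻¹ := by simp only [commutatorElement_def]; group
  rw [e]
  exact conj_mem_of_mem_norm (h1 hg) (hx.2 _ (conj_mem_of_mem_norm' (h2 hg) ht))

theorem comm_mem_sup {s t y : G} (h1 : T ≤ 𝓝(W)) (ht : t ∈ 𝓝(W)) (h2 : ∀ x ∈ T, ⁅s, x⁆ ∈ W)
    (h3 : ⁅s, t⁆ ∈ W) (hy : y ∈ T ⊔ zpowers t) : ⁅s, y⁆ ∈ W :=
  comm_symm_mem (mem_cmod.1 ((sup_le (fun x hx => mem_cmod.2 ⟨h1 hx, comm_symm_mem (h2 x hx)⟩)
    (zpowers_le.2 (mem_cmod.2 ⟨ht, comm_symm_mem h3⟩)) : T ⊔ zpowers t ≤ cmod 𝓝(W) W le_rfl s) hy)).2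

theorem comm_div_mem {s s' t : G} (hs : s ∈ 𝓝(W)) (h : ⁅t, s⁆⁻¹ * ⁅t, s'⁆ ∈ W) : ⁅s⁻¹ * s', t⁆ ∈ W := by
  have e : ⁅s⁻¹ * s', t⁆ = s⁻¹ * (⁅t, s⁆⁻¹ * ⁅t, s'⁆)⁻¹ * s := by simp only [commutatorElement_def]; group
  rw [e]
  exact conj_mem_of_mem_norm' hs (inv_mem h)

theorem exists_img {v : G} (h1 : ∀ r ∈ R, ⁅r, v⁆ ∈ 𝓝(W)) (h2 : ∀ r ∈ R, ∀ l ∈ R, ⁅l, ⁅r, v⁆⁆ ∈ W) :
    ∃ I : Subgroup G, ∀ x, x ∈ I ↔ ∃ r ∈ R, x * ⁅r, v⁆⁻¹ ∈ W := by
  refine ⟨⟨⟨⟨{x | ∃ r ∈ R, x * ⁅r, v⁆⁻¹ ∈ W}, ?_⟩, 1, one_mem _, by simp⟩, ?_⟩, fun x => Iff.rfl⟩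
  · rintro x y ⟨k, hk, hx⟩ ⟨l, hl, hy⟩
    refine ⟨l * k, mul_mem hl hk, ?_⟩
    have e : x * y * ⁅l * k, v⁆⁻¹ =
        x * ⁅k, v⁆⁻¹ * (⁅k, v⁆ * (y * ⁅l, v⁆⁻¹) * ⁅k, v⁆⁻¹) * ⁅l, ⁅k, v⁆⁆⁻¹ := by
      simp only [commutatorElement_def]; group
    rw [e]
    exact mul_mem (mul_mem hx (conj_mem_of_mem_norm (h1 k hk) hy)) (inv_mem (h2 k hk l hl))
  · rintro x ⟨k, hk, hx⟩
    refine ⟨k⁻¹, inv_mem hk, ?_⟩
    have e : x⁻¹ * ⁅k⁻¹, v⁆⁻¹ = ⁅k, v⁆⁻¹ * ((x * ⁅k, v⁆⁻¹)⁻¹ * ⁅k⁻¹, ⁅k, v⁆⁆) * ⁅k, v⁆ := by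
      simp only [commutatorElement_def]; group
    rw [e]
    exact conj_mem_of_mem_norm' (h1 k hk) (mul_mem (inv_mem hx) (h2 k hk _ (inv_mem hk)))

variable [Finite G]

theorem exists_gen (hp : p.Prime) {N M : Subgroup G} (h : N.relIndex M = p) (hle : N ≤ M) :
    ∃ t ∈ M, N ⊔ zpowers t = M := by
  have h1 : ¬ M ≤ N := fun h' => hp.one_lt.ne' (h ▸ relIndex_eq_one.2 h')
  obtain ⟨t, ht, ht'⟩ := SetLike.not_le_iff_exists.1 h1
  exact ⟨t, ht, PGBasic.sup_zpowers_eq_of_relIndex_prime hp h hle ht ht'⟩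

/-- a pairing into a section of order at most `p` -/
theorem pair (hp : p.Prime) {W0 W1 T0 : Subgroup G} (hS : S ≤ 𝓝(W0)) (hW : W0.relIndex W1 ≤ p)
    (h0 : ⁅S, T0⁆ ≤ W0) (T : Subgroup G) (hT : IsPi {p} T) (h1 : T0 ≤ T) (h2 : T ≤ 𝓝(W0))
    (h3 : ⁅S, T⁆ ≤ W1) : (kk S W0 T).relIndex S ≤ T0.relIndex T := by
  induction T using WellFoundedLT.induction with
  | ind T ih =>
  rcases h1.eq_or_lt with rfl | hlt
  · rw [relIndex_eq_one.2 (le_kk le_rfl h0), relIndex_self]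
  obtain ⟨T1, a1, a2, a3, -⟩ := exists_below hp hT hlt
  obtain ⟨t, ht, e⟩ := exists_gen hp a3 a2
  have a4 : T1 < T := a2.lt_of_ne fun h => hp.one_lt.ne' (by rw [← a3, h, relIndex_self])
  have a5 := ih T1 a4 (hT.of_le a2) a1 (a2.trans h2) ((commutator_mono le_rfl a2).trans h3)
  have a6 : (kk S W0 T).relIndex (kk S W0 T1) ≤ W0.relIndex W1 := by
    refine relIndex_le_of_fun (fun s => ⁅t, s⁆)
      (fun s hs => comm_symm_mem (h3 (commutator_mem_commutator (kk_le hs) ht))) fun s hs s' hs' h => ?_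
    have c := mul_mem (inv_mem hs) hs'
    refine (mem_kk hS).2 ⟨kk_le c, fun y hy => comm_mem_sup (a2.trans h2) (h2 ht) ((mem_kk hS).1 c).2
      (comm_div_mem (hS (kk_le hs)) h) (e ▸ hy)⟩
  rw [← relIndex_mul_relIndex _ _ _ (kk_anti a2) kk_le, ← relIndex_mul_relIndex _ _ _ a1 a2, a3, mul_comm]
  exact Nat.mul_le_mul a5 (a6.trans hW)

theorem delta_step (hF : ⁅H, H⁆ ≤ F) (hFH : F ≤ H) (h1 : K ≤ K') (h2 : K' ≤ H)
    (h : (K' ⊓ (F ⊔ K)).relIndex K' ≤ b) : (F ⊔ K).relIndex H ≤ b * (F ⊔ K').relIndex H := by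
  have e : F ⊔ K' = K' ⊔ (F ⊔ K) := le_antisymm (sup_le (le_sup_left.trans le_sup_right) le_sup_left)
    (sup_le le_sup_right (sup_le_sup_left h1 _))
  rw [← relIndex_mul_relIndex _ _ _ (sup_le_sup_left h1 F) (sup_le hFH h2)]
  refine Nat.mul_le_mul_right _ ?_
  rwa [e, relIndex_sup_norm (h2.trans (norm_of_der_le (hF.trans le_sup_left) (sup_le hFH (h1.trans h2)))),
    ← inf_relIndex_left]

/-- the setting: `H` acts on the abelian group `A`, and `b` bounds the trivial sections -/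
structure Ctx (p b : ℕ) (H A F : Subgroup G) : Prop where
  hp : p.Prime
  pH : IsPi {p} H
  pA : IsPi {p} A
  comm : IsMulCommutative A
  norm : H ≤ 𝓝(A)
  der : ⁅H, H⁆ ≤ F
  le : F ≤ H
  bd : ∀ X Y : Subgroup G, X ≤ Y → Y ≤ A → ⁅H, Y⁆ ≤ X → X.relIndex Y ≤ b

theorem Ctx.down (c : Ctx p b H A F) {V V' : Subgroup G} (h1 : V ≤ V') (h2 : V' ≤ A) (h3 : ⁅H, V'⁆ ≤ V)
    (h4 : V.relIndex V' ≤ p) : (F ⊔ kk H V A).relIndex H ≤ b * (F ⊔ kk H V' A).relIndex H := by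
  have n0 : H ≤ 𝓝(V) := norm_of_comm_le_right ((commutator_mono le_rfl h1).trans h3)
  have n1 : H ≤ 𝓝(V') := norm_of_comm_le_right (h3.trans h1)
  have nA : A ≤ 𝓝(V) := norm_of_comm c.comm (h1.trans h2)
  have k1 : kk H V A ≤ kk H V' A := kk_mono h1
  refine delta_step c.der c.le k1 kk_le ?_
  set K := kk H V A
  set K' := kk H V' A
  set R := K' ⊓ (F ⊔ K)
  have r1 : K ≤ R := le_inf k1 le_sup_right
  have r2 : R ≤ K' := inf_le_left
  have r3 : K' ≤ H := kk_le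
  have c1 : ⁅K', A⁆ ≤ V' := comm_kk n1
  have a1 := pair c.hp (r3.trans n0) h4 (comm_symm _ K' ▸ comm_kk nA : ⁅K', kk A V K'⁆ ≤ V) A c.pA kk_le nA c1
  have a2 := pair c.hp nA h4 (comm_symm _ A ▸ comm_kk n0 : ⁅A, K⁆ ≤ V) R (c.pH.of_le (r2.trans r3)) r1
    ((r2.trans r3).trans n0) ((commutator_mono le_rfl r2).trans (comm_symm _ A ▸ c1))
  have a3 : (kk A V K').relIndex (kk A V R) ≤ b := by
    refine c.bd _ _ (kk_anti r2) kk_le (le_kk ((commutator_mono le_rfl kk_le).trans (comm_le_right c.norm))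
      (H6Basic.three_subgroups n0 (kk_le.trans nA) (r3.trans n0) ?_ ?_))
    · exact (commutator_mono ((commutator_mono kk_le le_rfl).trans (comm_symm _ A ▸ c1)) le_rfl).trans
        (comm_symm _ V' ▸ h3)
    · have a6 : ⁅K', H⁆ ≤ R := le_inf (comm_le_left (norm_kk n1 c.norm))
        (((commutator_mono r3 le_rfl).trans c.der).trans le_sup_left)
      exact (commutator_mono a6 le_rfl).trans (comm_symm _ R ▸ comm_kk nA)
  have a4 : K.relIndex K' ≤ (kk K' V A).relIndex K' :=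
    relIndex_le_of_le_left (le_kk (kk_le.trans r3) (comm_kk (r3.trans n0))) (relIndex_ne_zero' _ _)
  have a5 := a4.trans a1
  rw [← relIndex_mul_relIndex _ _ _ r1 r2, ← relIndex_mul_relIndex _ _ _ (kk_anti r2) kk_le] at a5
  refine Nat.le_of_mul_le_mul_left (a5.trans ?_) (Nat.pos_of_ne_zero (relIndex_ne_zero' K R))
  rw [mul_comm]
  exact Nat.mul_le_mul a2 a3

theorem Ctx.up (c : Ctx p b H A F) {V U U' : Subgroup G} (h0 : V ≤ U') (h1 : U' ≤ U) (h2 : U ≤ A)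
    (n0 : H ≤ 𝓝(V)) (h3 : ⁅H, U⁆ ≤ U') (h4 : U'.relIndex U = p) :
    (F ⊔ kk H V U).relIndex H ≤ b * (F ⊔ kk H V U').relIndex H := by
  have n1 : H ≤ 𝓝(U') := norm_of_comm_le_right ((commutator_mono le_rfl h1).trans h3)
  have n2 : H ≤ 𝓝(U) := norm_of_comm_le_right (h3.trans h1)
  have hV : V ≤ A := (h0.trans h1).trans h2
  have nA : A ≤ 𝓝(V) := norm_of_comm c.comm hV
  have k1 : kk H V U ≤ kk H V U' := kk_anti h1
  refine delta_step c.der c.le k1 kk_le ?_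
  obtain ⟨v, hv, e⟩ := exists_gen c.hp h4 h1
  set K := kk H V U
  set K' := kk H V U'
  set R := K' ⊓ (F ⊔ K)
  have r1 : K ≤ R := le_inf k1 le_sup_right
  have r2 : R ≤ K' := inf_le_left
  have r3 : K' ≤ H := kk_le
  have c1 : ⁅K', U'⁆ ≤ V := comm_kk n0
  have c2 : ⁅K', U⁆ ≤ U' := (commutator_mono r3 le_rfl).trans h3
  have nK : H ≤ 𝓝(K') := norm_kk n0 n1
  have nR : H ≤ 𝓝(R) := norm_inf nK (norm_of_der_le (c.der.trans le_sup_left) (sup_le c.le kk_le))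
  have x1 : ⁅R, U⁆ ⊔ V ≤ ⁅K', U⁆ ⊔ V := sup_le_sup_right (commutator_mono r2 le_rfl) _
  have x2 : ⁅K', U⁆ ⊔ V ≤ A := sup_le ((c2.trans h1).trans h2) hV
  have x3 : A ≤ 𝓝(⁅R, U⁆ ⊔ V) := norm_of_comm c.comm (x1.trans x2)
  have x4 : H ≤ 𝓝(⁅R, U⁆ ⊔ V) := norm_sup (norm_comm nR n2) n0
  refine le_trans ?_ (c.bd _ _ x1 x2 (comm_sup_right_le ((le_sup_left.trans x2).trans x3) (hV.trans x3) ?_
    ((comm_le_right n0).trans le_sup_right)))
  · obtain ⟨I, hI⟩ := exists_img (R := R) (W := V) (v := v)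
      (fun r hr => nA (h2 (h1 (c2 (commutator_mem_commutator (r2 hr) hv)))))
      fun r hr l hl => c1 (commutator_mem_commutator (r2 hl) (c2 (commutator_mem_commutator (r2 hr) hv)))
    have i1 : V ≤ I := fun x hx => (hI x).2 ⟨1, one_mem _, by simpa using hx⟩
    have i2 : I ≤ A := fun x hx => by
      obtain ⟨r, hr, h⟩ := (hI x).1 hx
      have := mul_mem (hV h) (h2 (h1 (c2 (commutator_mem_commutator (r2 hr) hv))))
      rwa [inv_mul_cancel_right] at this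
    have i3 := norm_of_comm c.comm i2
    have i4 : ⁅R, U⁆ ⊔ V ≤ I := by
      refine sup_le (commutator_le.2 fun r hr y hy => comm_mem_sup ((h1.trans h2).trans i3) (i3 (h2 hv))
        (fun x hx => i1 (c1 (commutator_mem_commutator (r2 hr) hx))) 
        ((hI _).2 ⟨r, hr, by rw [mul_inv_cancel]; exact one_mem _⟩) (e ▸ hy)) i1
    refine relIndex_le_of_fun (fun s => ⁅v, s⁆)
      (fun s hs => comm_symm_mem (mem_sup_left (commutator_mem_commutator hs hv))) fun s hs s' hs' h => ?_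
    obtain ⟨r, hr, h5⟩ := (hI _).1 (i4 (comm_div_mem (x4 (r3 hs)) h))
    have l1 := mul_mem (inv_mem hs) hs'
    set l := s⁻¹ * s'
    have l2 := mul_mem (inv_mem (r2 hr)) l1
    have l3 : r⁻¹ * l ∈ K := by
      refine (mem_kk n0).2 ⟨r3 l2, fun y hy => comm_mem_sup ((h1.trans h2).trans nA) (nA (h2 hv))
        ((mem_kk n0).1 l2).2 (comm_div_mem (n0 (r3 (r2 hr))) ?_) (e ▸ hy)⟩
      simpa using inv_mem h5
    simpa using mul_mem hr (r1 l3)
  · rw [comm_symm]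
    refine H6Basic.three_subgroups (r3.trans x4) (h2.trans x3) x4 ?_ ?_
    · exact ((commutator_mono (comm_symm _ U ▸ h3) le_rfl).trans (comm_symm _ U' ▸ c1)).trans le_sup_right
    · exact (commutator_mono (le_inf (comm_le_right nK)
        (((commutator_mono le_rfl r3).trans c.der).trans le_sup_left)) le_rfl).trans le_sup_left

theorem Ctx.ups (c : Ctx p b H A F) {V : Subgroup G} (n0 : H ≤ 𝓝(V)) (j : ℕ) (U : Subgroup G) (h0 : V ≤ U)
    (h1 : U ≤ A) (n1 : H ≤ 𝓝(U)) (h : ♯A = ♯U * p ^ j) :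
    (F ⊔ kk H V A).relIndex H ≤ b ^ j * (F ⊔ kk H V U).relIndex H := by
  induction j generalizing U with
  | zero => rw [eq_of_le_of_card_eq h1 (by simpa using h.symm)]; simp
  | succ j ih =>
  have a1 : U < A := h1.lt_of_ne fun e => by
    rw [e] at h
    have := Nat.eq_of_mul_eq_mul_left (card_pos' A) ((mul_one _).trans h)
    exact (Nat.one_lt_pow (Nat.succ_ne_zero j) c.hp.one_lt).ne this
  obtain ⟨L, l1, l2, l3, l4, l5⟩ := step c.hp (c.pH.sup c.pA c.norm) le_sup_left le_sup_right c.norm n1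
    (norm_of_comm c.comm h1) a1
  refine (ih L (h0.trans l1) l2 l3 (by rw [h, l4]; ring)).trans ?_
  rw [pow_succ, mul_assoc]
  exact Nat.mul_le_mul_left _ (c.up h0 l1 l2 n0 (comm_symm _ H ▸ l5) (relIndex_eq_of_card l1 l4))

theorem Ctx.downs (c : Ctx p b H A F) (i : ℕ) (V : Subgroup G) (h1 : V ≤ A) (n1 : H ≤ 𝓝(V))
    (h : ♯V = p ^ i) : (F ⊔ kk H ⊥ A).relIndex H ≤ b ^ i * (F ⊔ kk H V A).relIndex H := by
  induction i generalizing V with
  | zero => rw [card_eq_one.1 (by simpa using h : ♯V = 1)]; simp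
  | succ i ih =>
  have pR := c.pH.sup c.pA c.norm
  obtain ⟨L, l1, l2, l3⟩ := exists_normal_card (k := i) c.hp pR (h1.trans le_sup_right)
    (sup_le n1 (norm_of_comm c.comm h1)) (h ▸ Nat.pow_le_pow_right c.hp.pos i.le_succ)
  have l4 : ♯V = ♯L * p := by rw [h, l3, pow_succ]
  refine (ih L (l1.trans h1) (le_sup_left.trans l2) l3).trans ?_
  rw [pow_succ, mul_assoc]
  refine Nat.mul_le_mul_left _ (c.down l1 h1 ?_ (relIndex_eq_of_card l1 l4).le)
  rw [comm_symm]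
  exact comm_le_of_card c.hp pR le_sup_left (h1.trans le_sup_right) n1 (le_sup_left.trans l2) l1 l4.dvd

/-- the abelianization of `H / C_H(A)` has order at most `p ^ (a * a / 4)` -/
theorem linear (hp : p.Prime) (pH : IsPi {p} H) (hc : IsMulCommutative A) (hn : H ≤ 𝓝(A))
    (hF : ⁅H, H⁆ ≤ F) (hFH : F ≤ H) {a : ℕ} (ha : ♯A = p ^ a) :
    (F ⊔ H ⊓ 𝓒(A)).relIndex H ≤ p ^ (a * a / 4) := by
  have pA := isPi_of_card_eq_pow hp ha
  haveI : Nonempty {q : Subgroup G × Subgroup G // q.1 ≤ q.2 ∧ q.2 ≤ A ∧ ⁅H, q.2⁆ ≤ q.1} :=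
    ⟨⟨(⊥, ⊥), le_rfl, bot_le, by simp⟩⟩
  obtain ⟨⟨⟨V, U⟩, h0, h1, h2⟩, hm⟩ := Finite.exists_max
    fun q : {q : Subgroup G × Subgroup G // q.1 ≤ q.2 ∧ q.2 ≤ A ∧ ⁅H, q.2⁆ ≤ q.1} => q.1.1.relIndex q.1.2
  have c : Ctx p (V.relIndex U) H A F := ⟨hp, pH, pA, hc, hn, hF, hFH, fun X Y a1 a2 a3 => hm ⟨(X, Y), a1, a2, a3⟩⟩
  haveI := Fact.mk hp
  obtain ⟨i, hi⟩ := (pA.of_le (h0.trans h1)).exists_card hp
  obtain ⟨t, ht⟩ := PGBasic.exists_relIndex_eq_pow (H := V) ((pA.of_le h1).isPGroup hp)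
  obtain ⟨j, hj⟩ := PGBasic.exists_relIndex_eq_pow (H := U) (pA.isPGroup hp)
  have n0 : H ≤ 𝓝(V) := norm_of_comm_le_right ((commutator_mono le_rfl h0).trans h2)
  have a1 := c.ups n0 j U h0 h1 (norm_of_comm_le_right (h2.trans h0)) (by rw [← hj, card_mul_relIndex h1])
  have a2 := c.downs i V (h0.trans h1) n0 hi
  rw [relIndex_eq_one.2 ((le_kk le_rfl h2).trans le_sup_right : H ≤ F ⊔ kk H V U), mul_one] at a1
  have a3 : a = i + t + j := by
    refine Nat.pow_right_injective hp.two_le ?_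
    simp only
    rw [← ha, pow_add, pow_add, ← hi, ← ht, ← hj, card_mul_relIndex h0, card_mul_relIndex h1]
  have a4 : kk H ⊥ A ≤ H ⊓ 𝓒(A) := le_inf kk_le (comm_eq_bot_iff.1 (le_bot_iff.1 (comm_kk (le_norm_bot H))))
  refine (relIndex_le_of_le_left (sup_le_sup_left a4 F) (relIndex_ne_zero' _ _)).trans
    ((a2.trans (Nat.mul_le_mul_left _ a1)).trans ?_)
  rw [← pow_add, ht, ← pow_mul]
  refine Nat.pow_le_pow_right hp.pos ((Nat.le_div_iff_mul_le (by norm_num)).2 ?_)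
  rw [a3]
  nlinarith [sq_nonneg ((t : ℤ) - (i + j))]

end lin

section cen

universe u

/-- if `x ^ p` is central, `p` odd, and the elements of order `p` are central then `⁅x, g⁆ ^ p = 1` -/
theorem comm_pow_eq_one {G : Type*} [Group G] [Finite G] {p : ℕ} (hp : p.Prime) (h2 : p ≠ 2)
    (hG : IsPGroup p G) (hc : ∀ x : G, x ^ p = 1 → x ∈ center G) {x : G} (hx : x ^ p ∈ center G)
    (H : Subgroup G) (hH : x ∈ H) {g : G} (hg : g ∈ H) : ⁅x, g⁆ ^ p = 1 := by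
  induction H using WellFoundedLT.induction generalizing g with
  | ind H ih =>
  have a1 : zpowers x ⊔ ⁅H, H⁆ ≤ H := sup_le (zpowers_le.2 hH) (der_le H)
  rcases a1.eq_or_lt with e | hlt
  · have a2 := eq_of_le_sup_der ((isPi_of_isPGroup hp (hG.to_subgroup H)).isNilpotent hp) (zpowers_le.2 hH) e.ge
    obtain ⟨m, rfl⟩ := (a2 ▸ hg : g ∈ zpowers x)
    rw [((Commute.refl x).zpow_right m).commutator_eq, one_pow]
  have a3 : x ∈ zpowers x ⊔ ⁅H, H⁆ := mem_sup_left (mem_zpowers x)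
  have a4 : g * x⁻¹ * g⁻¹ ∈ zpowers x ⊔ ⁅H, H⁆ := by
    have := mul_mem (inv_mem a3) (mem_sup_right (commutator_mem_commutator hH hg))
    rwa [commutatorElement_def, mul_assoc x, mul_assoc x, inv_mul_cancel_left] at this
  have a5 : ⁅g * x⁻¹ * g⁻¹, x⁆ ^ p = 1 := by rw [← commutatorElement_inv, inv_pow, ih _ hlt a3 a4, inv_one]
  have a6 := PGClassTwo.mul_pow_odd (PGClassTwo.commute_of_mem_center (hc _ a5) _)
    (PGClassTwo.commute_of_mem_center (hc _ a5) _) (PGClassTwo.odd_of_ne_two hp h2) a5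
  rw [commutatorElement_def, mul_assoc x, mul_assoc x, a6, conj_pow, inv_pow,
    mem_center_iff.1 (inv_mem hx) g]
  group

theorem exists_om {G : Type*} [Group G] {p : ℕ} (hc : ∀ x : G, x ^ p = 1 → x ∈ center G) :
    ∃ W : Subgroup G, ∀ x, x ∈ W ↔ x ^ p = 1 :=
  ⟨⟨⟨⟨{x | x ^ p = 1}, fun {a b} ha hb => by
    change (a * b) ^ p = 1
    rw [(PGClassTwo.commute_of_mem_center (hc _ hb) a).mul_pow, ha, hb, one_mul]⟩, one_pow p⟩,
    fun {a} ha => by change a⁻¹ ^ p = 1; rw [inv_pow, ha, inv_one]⟩, fun _ => Iff.rfl⟩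

/-- Thompson: for odd `p`, if the elements of order `p` are central then `|G : Φ(G)| ≤ |Ω₁(G)|` -/
theorem index_frattini_le_om {p : ℕ} [hp : Fact p.Prime] (h2 : p ≠ 2) (n : ℕ) (G : Type u) [Group G] [Finite G]
    (hn : Nat.card G = n) (hG : IsPGroup p G) (hc : ∀ x : G, x ^ p = 1 → x ∈ center G) (W : Subgroup G)
    (hW : ∀ x, x ∈ W ↔ x ^ p = 1) : (frattini G).index ≤ ♯W := by
  induction n using Nat.strong_induction_on generalizing G with
  | _ n ih =>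
  subst hn
  by_cases hF : W ≤ frattini G
  · rcases subsingleton_or_nontrivial G with h0 | h0
    · rw [Subsingleton.elim (frattini G) ⊤, index_top]; exact card_pos' W
    have wc : W ≤ center G := fun x hx => hc x ((hW x).1 hx)
    haveI : W.Normal := ⟨fun x hx g => by rwa [mem_center_iff.1 (wc hx) g, mul_inv_cancel_right]⟩
    obtain ⟨z, -, -, hz⟩ := PGBasic.exists_mem_center_orderOf hG (M := ⊤) top_ne_bot
    have w1 : W ≠ ⊥ := ne_bot_of_mem ((hW z).2 (hz ▸ pow_orderOf_eq_one z)) fun e =>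
      hp.out.one_lt.ne (by rw [← hz, e, orderOf_one])
    have k : ∀ x : G, x ^ p ∈ W → ∀ g : G, ⁅x, g⁆ ^ p = 1 := fun x hx g =>
      comm_pow_eq_one hp.out h2 hG hc (wc hx) ⊤ (mem_top _) (mem_top _)
    have k2 : ∀ q : G ⧸ W, q ^ p = 1 → q.out ^ p ∈ W := fun q hq => by
      rwa [← QuotientGroup.eq_one_iff, QuotientGroup.mk_pow, QuotientGroup.out_eq']
    have hc' : ∀ q : G ⧸ W, q ^ p = 1 → q ∈ center (G ⧸ W) := fun q hq => mem_center_iff.2 fun r => by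
      have := (QuotientGroup.eq_one_iff _).2 ((hW _).2 (k _ (k2 q hq) r.out))
      rw [commutatorElement_def] at this
      simp only [QuotientGroup.mk_mul, QuotientGroup.mk_inv, QuotientGroup.out_eq'] at this
      exact (commutatorElement_eq_one_iff_mul_comm.1 this).symm
    obtain ⟨W', hW'⟩ := exists_om hc'
    have a1 := ih _ (by
      have := W.card_mul_index
      have h1 := (one_lt_card_iff_ne_bot W).2 w1
      have h3 : 0 < W.index := Nat.pos_of_ne_zero index_ne_zero_of_finite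
      change W.index < _
      nlinarith) (G ⧸ W) rfl (hG.to_quotient W) hc' W' hW'
    rw [← index_comap_of_surjective _ (QuotientGroup.mk'_surjective W),
      PGFrattini.comap_frattini_of_surjective hG _ (QuotientGroup.mk'_surjective W), QuotientGroup.ker_mk',
      sup_eq_left.2 hF] at a1
    refine a1.trans (Nat.card_le_card_of_injective
      (fun q : W' => (⟨q.1.out ^ p, k2 _ ((hW' _).1 q.2)⟩ : W)) fun q q' h => Subtype.ext ?_)
    have b1 : q.1.out ^ p = q'.1.out ^ p := congrArg Subtype.val h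
    have b2 : ⁅q'.1.out, q.1.out⁻¹⁆ ^ p = 1 := k _ (k2 _ ((hW' _).1 q'.2)) _
    have b3 := PGClassTwo.mul_pow_odd (PGClassTwo.commute_of_mem_center (hc _ b2) _)
      (PGClassTwo.commute_of_mem_center (hc _ b2) _) (PGClassTwo.odd_of_ne_two hp.out h2) b2
    rw [inv_pow, b1, inv_mul_cancel] at b3
    rw [← q.1.out_eq, ← q'.1.out_eq]
    exact QuotientGroup.eq.2 ((hW _).2 b3)
  · obtain ⟨z, hz, hz'⟩ := SetLike.not_le_iff_exists.1 hF
    obtain ⟨M, hM, hzM⟩ : ∃ M : Subgroup G, IsCoatom M ∧ z ∉ M := by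
      by_contra h
      exact hz' (PGFrattini.mem_frattini_iff.2 fun M hM => by_contra fun h' => h ⟨M, hM, h'⟩)
    have a1 := ih _ ((card_lt_of_lt hM.1.lt_top).trans_eq card_top) M rfl (hG.to_subgroup M)
      (fun x hx => mem_center_iff.2 fun g => Subtype.ext
        (mem_center_iff.1 (hc x (congrArg Subtype.val hx)) g)) (W.subgroupOf M)
      fun x => by rw [mem_subgroupOf, hW, ← Subgroup.coe_pow, OneMemClass.coe_eq_one]
    have a2 : ♯(W.subgroupOf M) = ♯(W ⊓ M) := by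
      rw [← subgroupOf_map_subtype, card_map_of_injective M.subtype_injective]
    have a3 : ♯(W ⊓ M) * p ≤ ♯W := PGBasic.card_mul_le_of_lt (hG.to_subgroup W)
      (inf_le_left.lt_of_ne fun e => hzM (e.ge hz).2)
    have a4 := index_map_subtype (frattini M)
    rw [PGBasic.index_eq_of_isCoatom hG hM] at a4
    calc (frattini G).index ≤ ((frattini M).map M.subtype).index :=
          Nat.le_of_dvd (Nat.pos_of_ne_zero index_ne_zero_of_finite)
            (index_dvd_of_le (PGFrattini.map_frattini_le_frattini hG M))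
      _ ≤ ♯(W ⊓ M) * p := by rw [a4, ← a2]; exact Nat.mul_le_mul_right _ a1
      _ ≤ _ := a3

end cen

end CA.FusPat
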