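import Cfsg.Agent.Lib.Fus.FusSolv
import Cfsg.Agent.Lib.Fus.FusMisc
import Cfsg.Agent.Lib.Solv.PStabZ2

/-!
`p`-stable fusion systems.
-/

namespace CA.Fus

open Cfsg Subgroup CA.AmbSyl CA.AmbCore
open Cfsg.FusionSystem (normalizerIn centralizerIn)
open scoped commutatorElement

variable {Ω : Type*} [Group Ω] {S T P Q R : Subgroup Ω} {F : FusionSystem S} {p : ℕ} {f g : Ω → Ω}

/-- Quadratic automorphisms of `Q` lie in `O_p(Aut_F(Q))`. -/
def PSA (F : FusionSystem S) (p : ℕ) (Q : Subgroup Ω) : Prop :=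
  ∀ χ : MulAut Q, χ ∈ F.autGroup Q → (∀ a : Q, χ a⁻¹ * a * χ a⁻¹ * χ (χ a) = 1) → χ ∈ pCoreOf p (F.autGroup Q)

/-- `p`-stability. -/
def PS (F : FusionSystem S) (p : ℕ) : Prop := ∀ Q, F.IsFullyNormalized Q → PSA F p Q

theorem quad_pow {G : Type*} [Group G] {χ : MulAut G} {a : G} (h : χ a⁻¹ * a * χ a⁻¹ * χ (χ a) = 1) (n : ℕ) :
    (χ ^ n) a = a * (a⁻¹ * χ a) ^ n := by
  have e : χ (a⁻¹ * χ a) = a⁻¹ * χ a := by
    rw [eq_comm, ← inv_mul_eq_one, ← h]; simp [mul_assoc]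
  induction n with
  | zero => simp
  | succ n ih => rw [pow_succ', MulAut.mul_apply, ih, map_mul, map_pow, e, pow_succ', ← mul_assoc, mul_inv_cancel_left]

variable [Finite S] [Fact p.Prime]

theorem MIso.psa (h : MIso F P Q f g) (hQ : PSA F p Q) : PSA F p P := fun χ h1 h2 =>
  h.tr_mem_pCore.1 (hQ _ (h.tr_mem h1) fun a => by
    simpa [HIso.tr] using congrArg h.equiv (h2 (h.equiv.symm a)))

theorem PS.all (h : PS F p) (hQ : Q ≤ S) : PSA F p Q := by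
  obtain ⟨R, h1, h2⟩ := exists_fullyNorm F hQ
  obtain ⟨f, g, i⟩ := isConj_iff'.1 h1
  exact i.psa (h R h2)

theorem PS.sub (h : PS F p) {E : FusionSystem T} (hE : E.IsSubsystemOf F) : PS E p := fun Q hQ χ h1 h2 => by
  have h3 := hQ.1.trans (sub_le hE)
  have := fin_le h3
  have h4 := aut_mono hE Q
  exact le_pCoreOf inf_le_right ((isPGroup_pCoreOf p _).to_le inf_le_left)
    (Amb.norm_inf (h4.trans (norm_pCoreOf p _)) le_normalizer) ⟨h.all h3 χ (h4 h1) h2, h1⟩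

theorem psa_cyc (hS : IsPGroup p S) (hQ : Q ≤ S) [IsCyclic Q] : PSA F p Q := fun χ h1 h2 => by
  have := fin_le hQ
  obtain ⟨n, e⟩ := (hS.to_le hQ).exists_card_eq
  refine le_pCoreOf (zpowers_le.2 h1) (isPGroup_zpowers (k := n) (MulEquiv.ext fun a => ?_))
    (fun β _ => centralizer_le_normalizer _ fun γ _ => (IsCyclic.mulAutMulEquiv Q).injective (by simp [mul_comm]))
    (mem_zpowers χ)
  rw [quad_pow (h2 a), ← e, pow_card_eq_one', mul_one, MulAut.one_apply]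

theorem ps_iff_nc (hS : IsPGroup p S) : PS F p ↔ ∀ R, F.IsFullyNormalized R → ¬ IsCyclic R →
    ∀ N : FusionSystem (normalizerIn S R), F.IsNormalizerSystem R N → PS N p := by
  refine ⟨fun h R _ _ N hN => h.sub (normSys_sub hN), fun h Q hQ => ?_⟩
  by_cases hc : IsCyclic Q
  · exact psa_cyc hS hQ.1
  obtain ⟨N, hN⟩ := exists_normSys F hQ.1
  have := fin_le (normIn_le S Q)
  simpa only [PSA, aut_normSys hN] using (h Q hQ hc N hN).all (le_normIn hQ.1)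

theorem ps_iff_cr (hS : IsPGroup p S) (hF : F.IsSaturated p) : PS F p ↔ ∀ R, F.IsFullyNormalized R → F.IsCentric R →
    F.IsRadical p R → ∀ N : FusionSystem (normalizerIn S R), F.IsNormalizerSystem R N → PS N p := by
  refine ⟨fun h R _ _ _ N hN => h.sub (normSys_sub hN), fun h Q hQ => ?_⟩
  obtain ⟨P, R, h1, h2, h3, h4, h5, h6⟩ := exists_cr_above hS hF hQ.1
  obtain ⟨f, g, i⟩ := isConj_iff'.1 h1
  obtain ⟨N, hN⟩ := exists_normSys F h3.1
  have := fin_le (normIn_le S R)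
  have h7 := h2.trans (le_normIn h3.1)
  have e : N.autGroup P = F.autGroup P := (aut_mono (normSys_sub hN) P).antisymm fun α hα => by
    obtain ⟨β, hβ, e⟩ := h6 α hα
    exact (((mem_aut (le_normIn h3.1)).1 (aut_normSys hN ▸ hβ)).mono h2).mem_aut fun x hx => (e x hx).symm
  exact i.psa (by simpa only [PSA, e] using (h R h3 h4 h5 N hN).all h7)

theorem ps_group {G : Type*} [Group G] [Finite G] (P : Sylow p G) :
    IsNormalizerPStable p G ↔ PS (groupFusionSystem (P : Subgroup G)) p := by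
  refine H6Op.isNormalizerPStable_iff.trans ⟨fun h Q hQ χ h1 h2 => ?_, PStabZ.st_of_fusion (sylIn_top P)⟩
  have h5 : (groupFusionSystem (P : Subgroup G)).autGroup Q = (⊤ : Subgroup _).map Q.normalizerMonoidHom := by
    rw [aut_group hQ.1]
    ext α
    rw [mem_autInd']
    exact ⟨fun ⟨x, hx, e⟩ => ⟨⟨x, hx.2⟩, mem_top _, e ▸ (dif_pos hx.2 : cjA Q x = _).symm⟩,
      fun ⟨x, _, e⟩ => ⟨x, ⟨mem_top _, x.2⟩, e ▸ dif_pos x.2⟩⟩
  rw [h5] at h1 ⊢
  obtain ⟨x, -, rfl⟩ := h1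
  have h3 := P.isPGroup'.to_le hQ.1
  refine (H6Op.mem_Op_iff_map _ (by rw [normalizerMonoidHom_ker]) (mem_top x)).1 ((H6Op.mem_Op_subgroupOf x).2
    ((h Q h3).mem h3 le_rfl x.2 (commutator_eq_bot_iff_le_centralizer.2 (commutator_le.2 fun a ha y hy => ?_))))
  obtain ⟨n, rfl⟩ := mem_powers_iff_mem_zpowers.2 hy
  have e : (x : G) ^ n * a⁻¹ * ((x : G) ^ n)⁻¹ = a⁻¹ * (a⁻¹⁻¹ * (x * a⁻¹ * (x : G)⁻¹)) ^ n :=
    congrArg Subtype.val (map_pow Q.normalizerMonoidHom x n ▸ quad_pow (h2 ⟨a, ha⟩⁻¹) n :)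
  have e' : (x : G) * a⁻¹⁻¹ * (x : G)⁻¹ * a⁻¹ * (x * a⁻¹⁻¹ * (x : G)⁻¹) * (x * (x * a⁻¹ * (x : G)⁻¹) * (x : G)⁻¹) = 1 :=
    congrArg Subtype.val (h2 ⟨a, ha⟩⁻¹)
  rw [show ⁅a, (x : G) ^ n⁆ = a * ((x : G) ^ n * a⁻¹ * ((x : G) ^ n)⁻¹) by simp [commutatorElement_def, mul_assoc], e,
    mul_inv_cancel_left]
  refine pow_mem (mem_centralizer_iff.2 ?_) n
  rintro _ ⟨k, rfl⟩
  refine (Commute.zpow_left ?_ k).eq
  rw [commute_iff_eq, ← mul_inv_eq_iff_eq_mul, eq_comm, ← inv_mul_eq_one, ← e']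
  group

end CA.Fus
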