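import Cfsg.Agent.Lib.Fus.FusSs
import Cfsg.Agent.Lib.Fus.FusDr
import Cfsg.Agent.S1447
import Cfsg.Agent.S1896
import Cfsg.Agent.S5234

/-!
Metacyclic groups of supersoluble type.
-/

namespace CA.Fus

open Cfsg Subgroup CA.AmbSyl CA.AmbCore CA.AmbRes CA.SylIn CA.Two CA.MC2 CA.MC3 CA.MC4 CA.Wrth CA.Wrth2
open scoped commutatorElement

variable {Ω G G' : Type*} [Group Ω] [Group G] [Group G'] {S : Subgroup Ω} {T : Subgroup G} {p m : ℕ} {ε δ : ℤ}
  {a y : G} {θ : Ω → G} {θ' : G → Ω}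

theorem not_inner_mc [Finite G] [Finite G'] (h : MC m ε δ a y) (e : zpowers a ⊔ zpowers y = T) (hP : Perf m ε δ G')
    (i : HIso S T θ θ') : ¬ ∀ F : FusionSystem S, F.IsSaturated 2 → F = innerFusionSystem S := fun hF => by
  haveI : Fact (Nat.Prime 2) := ⟨Nat.prime_two⟩
  obtain ⟨⟨a', y', h'⟩, hc, hO⟩ := hP
  obtain ⟨T', hT⟩ := exists_sylow h'.card hc
  obtain ⟨η, η', j, -⟩ := mc_hIso h' h
  rw [hT, e] at j
  obtain ⟨E, k⟩ := exists_fIso (groupFusionSystem (T' : Subgroup G')) (j.trans i.symm)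
  obtain rfl := hF E (k.sat T'.isPGroup' (sat_group (sylIn_top T')))
  exact not_npc (hO ▸ mem_top y') h'.y_ne_one h'.pow_four (npc_of_inner (sylIn_top T')
    (k.symm.unique (FIso.inner k.symm.toHIso) ▸ sub_refl _))

variable [hp : Fact p.Prime]

theorem pa_cyc [Finite G] [IsCyclic G] (hG : IsPGroup p G) : PA p G := fun H hH => by
  refine ⟨⟨⟨fun a b => Subtype.ext ((IsCyclic.mulAutMulEquiv G).injective (by simp [mul_comm]))⟩⟩, fun β hβ => ?_⟩
  obtain ⟨n, e⟩ := hG.exists_card_eq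
  have h1 := orderOf_dvd_natCard β
  rw [IsCyclic.card_mulAut, e] at h1
  refine orderOf_dvd_iff_pow_eq_one.1 ?_
  rcases n with _ | n
  · exact h1.trans (by simp)
  · rw [Nat.totient_prime_pow_succ hp.out] at h1
    exact ((hH.coprime_dvd_left (orderOf_dvd_natCard H hβ)).pow_right n).dvd_of_dvd_mul_left h1

theorem pa_mc_odd [Finite G] (hG : IsPGroup p G) (h2 : p ≠ 2) (hm : IsMetacyclic G) (hna : ¬ IsMulCommutative G) :
    PA p G := fun H hH => by
  have : Finite (G ⋊[H.subtype] H) := .of_equiv _ SemidirectProduct.equivProd.symm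
  let e := MonoidHom.ofInjective (SemidirectProduct.inl_injective (φ := H.subtype))
  set R := (SemidirectProduct.inl (φ := H.subtype)).range
  set A := (SemidirectProduct.inr (φ := H.subtype)).range
  have hn : R.Normal := by rw [show R = _ from SemidirectProduct.range_inl_eq_ker_rightHom]; infer_instance
  have h0 : ∀ β : H, SemidirectProduct.inr β ∈ centralizer (R : Set (G ⋊[H.subtype] H)) → β = 1 := fun β h =>
    Subtype.ext (MulEquiv.ext fun g => by simpa using congrArg SemidirectProduct.left (h _ ⟨g, rfl⟩).symm)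
  have hc : (Nat.card A).Coprime p := by
    rwa [← Nat.card_congr (MonoidHom.ofInjective SemidirectProduct.inr_injective).toEquiv]
  have hR := hG.of_equiv e
  obtain ⟨-, h3, -, h4⟩ := Cfsg.Agent.S1447.result p h2 R A hR (by
    obtain ⟨N, _, h, h'⟩ := hm
    haveI : (N.map (e : G →* R)).Normal := Normal.map ‹_› _ e.surjective
    exact ⟨N.map (e : G →* R), this, isCyclic_of_surjective _ (e.subgroupMap N).surjective,
      isCyclic_of_surjective _ (QuotientGroup.congr N _ e rfl).surjective⟩) le_normalizer_of_normal hc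
  have h5 : ∀ β : H, SemidirectProduct.inr β ∈ centralizer ((⁅R, A⁆ : Subgroup _) : Set (G ⋊[H.subtype] H)) → β = 1 :=
    fun β h => h0 β fun x hx => (sup_le (le_centralizer_iff.1 (zpowers_le.2 h)) (inf_le_right.trans
      (centralizer_le (zpowers_le.2 (show _ ∈ A from ⟨β, rfl⟩)))) (h3.ge hx) _ (mem_zpowers _)).symm
  by_cases h6 : A ≤ centralizer R
  · obtain rfl : H = ⊥ := eq_bot_iff.2 fun β hβ => congrArg Subtype.val (h0 ⟨β, hβ⟩ (h6 ⟨_, rfl⟩))
    exact ⟨inferInstance, fun β hβ => by rw [mem_bot.1 hβ, one_pow]⟩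
  obtain ⟨-, h7, -⟩ := h4 (fun h => hna ⟨⟨fun a b => e.injective (by simp only [map_mul, h.1.1])⟩⟩) h6
  let f := (normalizerMonoidHom ⁅R, A⁆).comp ((inclusion (normalizer_commutator_ge_right R A)).comp
    (MonoidHom.rangeRestrict _))
  have h9 : Function.Injective f := (injective_iff_map_eq_one f).2 fun β h => h5 β (by
    have : _ ∈ (normalizerMonoidHom ⁅R, A⁆).ker := h
    rwa [normalizerMonoidHom_ker] at this)
  obtain ⟨h10, h11⟩ := pa_cyc (hR.to_le (commutator_le_left R A)) f.range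
    (by rwa [← Nat.card_congr (MonoidHom.ofInjective h9).toEquiv])
  exact ⟨⟨⟨fun a b => h9 (by simpa using congrArg Subtype.val (h10.1.1 ⟨_, a, rfl⟩ ⟨_, b, rfl⟩))⟩⟩, fun β hβ =>
    congrArg Subtype.val (h9 (a₁ := ⟨β, hβ⟩ ^ (p - 1)) (a₂ := 1) (by rw [map_pow, h11 _ ⟨_, rfl⟩, map_one]))⟩

theorem card_le_mc [Finite G] (hm : IsMetacyclic G) (h : ∀ x ∈ T, x ^ p = 1) : Nat.card T ≤ p ^ 2 := by
  obtain ⟨N, _, h1, h2⟩ := hm
  have h3 : ∀ {X : Type _} [Group X] [Finite X] [IsCyclic X], (∀ x : X, x ^ p = 1) → Nat.card X ≤ p :=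
    fun h => Nat.le_of_dvd hp.out.pos (IsCyclic.exponent_eq_card.symm.dvd.trans
      (Monoid.exponent_dvd_of_forall_pow_eq_one h))
  have := isCyclic_of_injective ((inclusion inf_le_left).comp (subgroupOfEquivOfLe inf_le_right).toMonoidHom)
    ((inclusion_injective (inf_le_left : N ⊓ T ≤ N)).comp (MulEquiv.injective _))
  rw [← card_mul_index ((N ⊓ T).subgroupOf T), sq]
  refine Nat.mul_le_mul (h3 fun x => Subtype.ext (Subtype.ext (h _ x.1.2))) ?_
  rw [inf_subgroupOf_right, ← relIndex, ← QuotientGroup.ker_mk' N, relIndex_ker]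
  exact h3 fun ⟨_, x, hx, rfl⟩ => Subtype.ext (by simp [← QuotientGroup.mk_pow, h x hx])

theorem pa_mc [Finite G] (hG : IsPGroup p G) (hm : IsMetacyclic G)
    (h : ¬ ∃ n, 0 < n ∧ Nonempty (G ≃* Multiplicative (ZMod (p ^ n)) × Multiplicative (ZMod (p ^ n))))
    (h' : p = 2 → ¬ Nonempty (G ≃* QuaternionGroup 2)) : PA p G := by
  rcases eq_or_ne p 2 with rfl | h2
  · refine pa_of_pg (by_contra fun h3 => ?_)
    obtain ⟨n, ⟨e⟩⟩ := (Cfsg.Agent.S1896.result hG hm h3).resolve_left (h' rfl)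
    rcases n with _ | n
    · have : Subsingleton G := (Nat.card_eq_one_iff_unique.1 (by rw [Nat.card_congr e.toEquiv]; simp)).1
      exact h3 fun β => ⟨0, MulEquiv.ext fun _ => Subsingleton.elim _ _⟩
    · exact h ⟨_, n.succ_pos, ⟨e⟩⟩
  by_cases hab : IsMulCommutative G
  swap
  · exact pa_mc_odd hG h2 hm hab
  letI : CommGroup G := { (inferInstance : Group G) with mul_comm := hab.1.1 }
  refine (pa_or_prod hG).resolve_right fun ⟨n, H, _, hn, ⟨e⟩⟩ => h ⟨n, hn, ?_⟩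
  rcases subsingleton_or_nontrivial H with h3 | h3
  · letI := uniqueOfSubsingleton (1 : H)
    exact ⟨e.trans MulEquiv.prodUnique⟩
  have : NeZero (p ^ n) := ⟨pow_ne_zero n hp.out.ne_zero⟩
  have : Finite H := .of_surjective _ (Prod.snd_surjective.comp e.surjective)
  obtain ⟨a, ha⟩ := exists_prime_orderOf_dvd_card' (G := Multiplicative (ZMod (p ^ n))) p
    (by simpa using dvd_pow_self p hn.ne')
  obtain ⟨b, hb⟩ := exists_prime_orderOf_dvd_card' (G := H) p
    (((hG.of_equiv e).of_surjective (MonoidHom.snd _ H) Prod.snd_surjective).card_eq_or_dvd.resolve_left Finite.one_lt_card.ne')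
  have h4 : ∀ {X : Type _} [Group X] {c x : X}, orderOf c = p → x ∈ zpowers c → x ^ p = 1 := fun h hx =>
    orderOf_dvd_iff_pow_eq_one.1 (h ▸ orderOf_dvd_of_mem_zpowers hx)
  have := card_le_mc (T := (((zpowers a).prod (zpowers a)).prod (zpowers b)).map e.symm.toMonoidHom) hm (by
    rintro _ ⟨x, ⟨⟨h5, h6⟩, h7⟩, rfl⟩
    rw [← map_pow, show x ^ p = 1 from Prod.ext (Prod.ext (h4 ha h5) (h4 ha h6)) (h4 hb h7), map_one])
  rw [card_map_of_injective e.symm.injective, Nat.card_congr (prodEquiv _ _).toEquiv, Nat.card_prod,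
    Nat.card_congr (prodEquiv _ _).toEquiv, Nat.card_prod, Nat.card_zpowers, Nat.card_zpowers, ha, hb] at this
  nlinarith [hp.out.one_lt, mul_pos hp.out.pos hp.out.pos]

theorem ss_mc [Finite S] (hS : IsPGroup p S) (hm : IsMetacyclic S) : (∀ F : FusionSystem S, F.IsSaturated p → SS F) ↔
    ¬ ((∃ n, 0 < n ∧ Nonempty (S ≃* Multiplicative (ZMod (p ^ n)) × Multiplicative (ZMod (p ^ n)))) ∨
      (p = 2 ∧ ((∃ n, 2 ≤ n ∧ Nonempty (S ≃* DihedralGroup n)) ∨ IsQuasiDihedral S ∨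
        ∃ n, 2 ≤ n ∧ Nonempty (S ≃* QuaternionGroup n)))) := by
  refine (ss_type_iff hS).trans ⟨fun ⟨h1, h2⟩ => ?_, fun h => ⟨fun F hF => ?_, pa_mc hS hm (fun e => h (.inl e))
    fun e e' => h (.inr ⟨e, .inr (.inr ⟨2, le_rfl, e'⟩)⟩)⟩⟩
  · rintro (⟨n, hn, ⟨e⟩⟩ | ⟨rfl, h⟩)
    · exact not_pa_zmod (H := Unit) hn (e.trans MulEquiv.prodUnique.symm) h2
    have h3 := fun F hF => eq_inner_of_ess hS hF fun P hP => by
      obtain rfl := hP.resolve_right (not_ess_of_normal_top hS hF (h1 F hF))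
      exact (pg_of_pa h2).to_subgroup _
    obtain ⟨G, _, _, T, E, θ, θ', -, i, -, hT⟩ := exists_amb hS (sat_inner hS)
    rcases h with ⟨n, hn, ⟨e⟩⟩ | h | ⟨n, hn, ⟨e⟩⟩
    · obtain ⟨m, a, y, rfl, h, e'⟩ := exists_of_dihedral' hT hn (i.equiv.symm.trans e)
      rcases m with _ | m
      · haveI : IsKleinFour (Multiplicative (ZMod (2 ^ 1)) × Multiplicative (ZMod (2 ^ 1))) :=
          ⟨by simp, by simp [Monoid.exponent_prod]⟩
        obtain ⟨e'⟩ := IsKleinFour.nonempty_mulEquiv (G₁ := DihedralGroup 2)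
          (G₂ := Multiplicative (ZMod (2 ^ 1)) × Multiplicative (ZMod (2 ^ 1)))
        exact not_pa_zmod (H := Unit) one_pos ((e.trans e').trans MulEquiv.prodUnique.symm) h2
      · obtain ⟨q, _, -, -, hP⟩ := perf_D m.succ_pos
        exact not_inner_mc h e' hP i.toHIso h3
    · obtain ⟨m, a, y, hm, h, e'⟩ := exists_of_qd (isQuasiDihedral_of_equiv h i.equiv)
      obtain ⟨q, _, -, hP⟩ := perf_SD hm
      exact not_inner_mc h e' hP i.toHIso h3
    · obtain ⟨m, a, y, hm, h, e'⟩ := exists_of_quat hT hn (i.equiv.symm.trans e)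
      obtain ⟨m, rfl⟩ := Nat.exists_eq_add_of_le' hm
      obtain ⟨G', _, _, hP⟩ := perf_Q m
      exact not_inner_mc h e' hP i.toHIso h3
  rcases eq_or_ne p 2 with rfl | h2
  swap
  · exact Cfsg.Agent.S5234.result p hS F hF S (sc_top F) h2 hm
  by_cases hc : IsCyclic S
  · exact normal_top_of_comm hS hF fun x hx y hy => congrArg Subtype.val (IsCyclic.commutative.1.1 (⟨x, hx⟩ : S) ⟨y, hy⟩)
  refine normal_of_mc hS hF (sc_top F) hm (fun ⟨n, ⟨e⟩⟩ => h (.inr ⟨rfl, .inl ⟨n, by_contra fun hn => ?_, ⟨e⟩⟩⟩))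
    (fun ⟨n, ⟨e⟩⟩ => h (.inr ⟨rfl, .inr (.inr ⟨n, by_contra fun hn => ?_, ⟨e⟩⟩)⟩)) fun e => h (.inr ⟨rfl, .inr (.inl e)⟩)
  · have := (Nat.card_congr e.toEquiv).trans DihedralGroup.nat_card
    obtain rfl | rfl : n = 0 ∨ n = 1 := by omega
    exacts [Nat.card_pos.ne' this, hc (isCyclic_of_prime_card this)]
  · obtain rfl | rfl : n = 0 ∨ n = 1 := by omega
    · exact Nat.card_pos.ne' ((Nat.card_congr (e.trans
        QuaternionGroup.quaternionGroupZeroEquivDihedralGroupZero).toEquiv).trans DihedralGroup.nat_card)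
    · haveI := QuaternionGroup.quaternionGroup_one_isCyclic
      exact hc (isCyclic_of_surjective _ e.symm.surjective)

end CA.Fus
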