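import Cfsg.Agent.Lib.Fus.FusRk
import Cfsg.Agent.Lib.Grp.MxCl2

/-! Automorphisms of order two modulo `p` on a `p`-group of maximal class. -/

set_option autoImplicit false

namespace CA.H8Mx
open Subgroup Cfsg CA.MxCl CA.Fus
open scoped commutatorElement

variable {G : Type*} [Group G] {p n i : ℕ} {u v s t w x y : G} {k : G → G} {R : Subgroup G}

theorem q_eq : q i x = q i y ↔ x⁻¹ * y ∈ gam G i := QuotientGroup.eq

theorem bil {e f : ℤ} (hu : u ∈ gam G i) (h1 : q (i + 1) v = q (i + 1) u ^ e) (h2 : q 2 t = q 2 s ^ f) :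
    v ∈ gam G i ∧ q (i + 2) ⁅v, t⁆ = q (i + 2) ⁅u, s⁆ ^ (e * f) := by
  rw [← map_zpow, eq_comm, q_eq] at h1 h2
  have h3 := gam_anti (Nat.le_succ i) h1
  have hv : v ∈ gam G i := by simpa using mul_mem (zpow_mem hu e) h3
  let f1 : G →* G ⧸ gam G (i + 2) := MonoidHom.mk' (fun s => q (i + 2) ⁅v, s⁆) (q_comm_mul hv)
  let f2 : gam G i →* G ⧸ gam G (i + 2) := MonoidHom.mk' (fun a => q (i + 2) ⁅(a : G), s⁆) fun a b => by
    rw [q_comm (comm_mem b.2 s), ← q_conj (comm_mem b.2 s) a, ← map_mul]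
    congr 1
    simp only [commutatorElement_def, coe_mul]
    group
  have e1 : f1 ((s ^ f)⁻¹ * t) = 1 := q_one.2 (gam_comm i 2 (commutator_mem_commutator hv h2))
  have e2 : f2 ((⟨u, hu⟩ ^ e)⁻¹ * ⟨v, hv⟩) = 1 := q_one.2 (comm_mem h1 s)
  rw [map_mul, map_inv, inv_mul_eq_one, map_zpow] at e1 e2
  refine ⟨hv, e1.symm.trans ?_⟩
  rw [zpow_mul]
  exact congrArg (· ^ f) e2.symm

theorem q_sq [hp : Fact p.Prime] (hG : IsPGroup p G) (h2 : p ≠ 2) {N : Subgroup G} (h : x * x ∈ N) : x ∈ N := by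
  obtain ⟨m, hm⟩ := hG x
  have h4 : x ∈ zpowers (x ^ 2) := mem_zpowers_pow_iff.2
    ((((Nat.coprime_primes Nat.prime_two hp.out).2 h2.symm).pow_right m).coprime_dvd_right (orderOf_dvd_of_pow_eq_one hm))
  exact zpowers_le.2 (pow_two x ▸ h) h4

variable [Finite G] (h : Mx p n G)
include h

theorem chain (hk : HomOn R k) (hy : y ∈ R) {f : ℤ} (h2 : q 2 (k y) = q 2 y ^ f) (hi : 2 ≤ i) (m : ℕ)
    (hK : ∀ j, i ≤ j → j < i + m → y ∉ K G j) {e : ℤ} (hR : u ∈ R) (hu : u ∈ gam G i) (hu' : u ∉ gam G (i + 1))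
    (h1 : q (i + 1) (k u) = q (i + 1) u ^ e) :
    ∃ v ∈ gam G (i + m), v ∉ gam G (i + m + 1) ∧ v ∈ R ∧ q (i + m + 1) (k v) = q (i + m + 1) v ^ (e * f ^ m) := by
  induction m with
  | zero => exact ⟨u, hu, hu', hR, by simpa using h1⟩
  | succ m ih =>
    obtain ⟨v, h3, h4, h5, h6⟩ := ih fun j a b => hK j a (by omega)
    refine ⟨⁅v, y⁆, comm_mem h3 y, h.comm_not_mem (i := i + m) (by omega) (hK _ (by omega) (by omega)) h3 h4,
      mul_mem (mul_mem (mul_mem h5 hy) (inv_mem h5)) (inv_mem hy), ?_⟩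
    rw [hk.comm h5 hy, pow_succ, ← mul_assoc]
    exact (bil h3 h6 h2).2

theorem K_eq (hn : 5 ≤ n) (hi : 2 ≤ i) (hi' : i + 3 ≤ n) : K G i = K G 2 :=
  (h.K_eq_of_le le_rfl (by omega) (by omega) (h.le_K hi hi')).symm

theorem mem_two (hn : 5 ≤ n) (hc : ¬ K G 2 ≤ K G (n - 2)) (h1 : x ∈ K G 2) (h2 : x ∈ K G (n - 2)) : x ∈ gam G 2 := by
  obtain ⟨h3, h4⟩ := h.relIndex_two (h.index_K le_rfl (by omega))
  rcases PGBasic.eq_or_eq_of_relIndex_prime h.prime h4 (le_inf h3 (gam_le_K (n - 2))) inf_le_left with e | e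
  · exact e.le ⟨h1, h2⟩
  · exact (hc (e.ge.trans inf_le_right)).elim

theorem no_top (h2 : p ≠ 2) (hn : 5 ≤ n) (hk : HomOn ⊤ k) (e1 : ∀ w ∈ gam G (n - 3), w⁻¹ * k w ∈ gam G (n - 1))
    (e2 : ∀ z ∈ gam G (n - 1), k z = z⁻¹) : False := by
  haveI := Fact.mk h.prime
  obtain ⟨m, rfl⟩ : ∃ m, n = m + 3 := ⟨n - 3, by omega⟩
  simp only [show m + 3 - 3 = m by omega, show m + 3 - 1 = m + 2 by omega] at e1 e2
  obtain ⟨w, hw, hw'⟩ := h.exists_not_mem (i := m) (by omega) (by omega)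
  obtain ⟨c, hc, hc'⟩ := h.exists_not_mem (i := m + 1) (by omega) (by omega)
  have a1 : ∀ s, s⁻¹ * k s ∈ K G 2 := fun s => by
    rw [← K_eq h hn (i := m) (by omega) le_rfl]
    refine h.mem_K_of (by omega) hw hw' (q_one.1 ?_)
    have b1 := (bil (s := k s) (t := k s) (v := k w) (e := 1) (f := 1) hw
      (by rw [zpow_one, eq_comm, q_eq]; exact gam_anti (by omega) (e1 w hw)) (zpow_one _).symm).2
    have b2 := q_eq.2 (e1 _ (gam_anti (by omega) (comm_mem hw s)))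
    have b3 := (bil (s := s) (t := s⁻¹) (v := w) (e := 1) (f := -1) hw (zpow_one _).symm (by simp)).2
    rw [q_comm_mul hw, b3, ← zpow_one (q _ ⁅w, k s⁆), ← mul_one (1 : ℤ), ← b1, ← hk.comm trivial trivial, ← b2,
      mul_one, one_mul, zpow_neg_one, inv_mul_cancel]
  have a2 : ∀ s, s * k s ∈ K G (m + 1) := fun s => by
    refine h.mem_K_of (by omega) hc hc' (q_one.1 ?_)
    have b1 := (bil (s := k s) (t := k s) (v := k c) (e := 1) (f := 1) hc
      (by rw [zpow_one, eq_comm, q_eq]; exact e1 c (gam_anti (by omega) hc)) (zpow_one _).symm).2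
    rw [q_comm_mul hc, ← zpow_one (q _ ⁅c, k s⁆), ← mul_one (1 : ℤ), ← b1, ← hk.comm trivial trivial,
      e2 _ (comm_mem hc s), map_inv, mul_inv_cancel]
  by_cases he : K G 2 ≤ K G (m + 1)
  · refine h.K_ne (i := m + 1) (by omega) le_rfl (eq_top_iff.2 fun s _ => q_sq h.pg h2 ?_)
    simpa [mul_assoc] using mul_mem (a2 s) (inv_mem (he (a1 s)))
  obtain ⟨x, hx, hx'⟩ := h.exists_one (by omega)
  obtain ⟨y, hy, hy'⟩ := SetLike.not_le_iff_exists.1 fun e : K G (m + 1) ≤ K G 2 =>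
    he (h.K_eq_of_le (by omega) (by omega) (by omega) e).ge
  have b1 : q 2 (k x) = q 2 x ^ (-1 : ℤ) := by
    rw [zpow_neg_one, ← map_inv, eq_comm, q_eq, inv_inv]
    exact mem_two h hn he (by simpa using mul_mem hx (mul_mem hx (a1 x))) (a2 x)
  have b2 : q 2 (k y) = q 2 y ^ (1 : ℤ) := by
    rw [zpow_one, eq_comm, q_eq]
    exact mem_two h hn he (a1 y) (by simpa using mul_mem (inv_mem hy) (mul_mem (inv_mem hy) (a2 y)))
  obtain ⟨v, h3, h4, -, h6⟩ := chain h hk (mem_top y) b2 le_rfl (m - 2) (e := -1 * 1)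
    (fun j a b => by rwa [K_eq h hn a (by omega)]) (mem_top ⁅x, y⁆) (comm_mem (i := 1) (mem_top x) y)
    (h.comm_not_mem_one hx' (by rwa [h.sup_eq (h.index_K le_rfl (by omega)) hx hx']))
    (by rw [hk.comm trivial trivial]; exact (bil (i := 1) (mem_top x) b1 b2).2)
  rw [show 2 + (m - 2) = m by omega] at h3 h4 h6
  rw [← q_eq.2 (gam_anti (by omega) (e1 v h3))] at h6
  refine h4 (q_sq h.pg h2 (q_one.1 ?_))
  rw [map_mul, mul_eq_one_iff_eq_inv]
  simpa using h6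

theorem mem_three (hn : 5 ≤ n) (hc : ¬ K G 2 ≤ K G (n - 2)) (hw : w ∈ gam G (n - 3)) (hw' : w ∉ gam G (n - 2))
    (hx : x ∈ K G (n - 2)) (e : ⁅w, x⁆ = 1) : x ∈ gam G 3 := by
  have h6 := (h.exc (by omega) hc).2.1
  obtain ⟨m, rfl⟩ : ∃ m, n = m + 3 := ⟨n - 3, by omega⟩
  simp only [show m + 3 - 3 = m by omega, show m + 3 - 2 = m + 1 by omega] at hw hw' hx hc
  have h1 : x ∈ gam G 2 := mem_two h hn hc (K_eq h hn (i := m) (by omega) le_rfl ▸
    h.mem_K_of (by omega) hw hw' (e ▸ one_mem _)) hx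
  by_contra h2
  obtain ⟨s, hs⟩ := h.exists_unif
  obtain ⟨y, hy, hy'⟩ := h.exists_one (by omega)
  refine h.exc_not_mem hs hy hy' (m := m + 1) (fun i a b => h.le_K a (by omega)) (by omega) (i := m - 1) (j := 1)
    le_rfl hc (by omega) ?_
  obtain ⟨z, hz, a, ea⟩ := h.layer (by omega) hw hw' (gam_anti (by omega) (h.iter_mem hy s (m - 1)).1)
  obtain ⟨z', hz', b, eb⟩ := h.layer le_rfl h1 h2 (h.iter_mem hy s 1).1
  have c : ∀ {i j : ℕ} {a b : G}, a ∈ gam G i → b ∈ gam G j → m + 3 ≤ i + j → Commute a b := fun ha hb e =>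
    commutatorElement_eq_one_iff_commute.1 ((h.gam_bot e).le (gam_comm _ _ (commutator_mem_commutator ha hb)))
  rw [ea, eb, commutatorElement_eq_one_iff_commute.2 (((c hz hz' (by omega)).mul_right
    ((c hz h1 (by omega)).pow_right b)).mul_left (((c hw hz' (by omega)).mul_right
      ((commutatorElement_eq_one_iff_commute.1 e).pow_right b)).pow_left a))]
  exact one_mem _

theorem no_exc (h2 : p ≠ 2) (hn : 5 ≤ n) (hc : ¬ K G 2 ≤ K G (n - 2)) (hk : HomOn (K G (n - 2)) k)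
    (hm : ∀ r ∈ K G (n - 2), k r ∈ K G (n - 2)) (hx : x ∈ K G (n - 2)) (hx' : x ∉ K G 2) (hw : w ∈ gam G (n - 3))
    (hw' : w ∉ gam G (n - 2)) (e1 : ∀ w ∈ gam G (n - 3), w⁻¹ * k w ∈ gam G (n - 2)) (e2 : k ⁅w, x⁆ = ⁅w, x⁆⁻¹)
    (e3 : ∀ c ∈ gam G (n - 2), c⁻¹ * k c ∈ zpowers ⁅w, x⁆) : False := by
  haveI := Fact.mk h.prime
  obtain ⟨⟨r, hr⟩, h6, -⟩ := h.exc (by omega) hc
  have h3 := fun {x} => mem_three h hn hc hw hw' (x := x)
  have hl := h.K_last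
  obtain ⟨m, rfl⟩ : ∃ m, n = m + 3 := ⟨n - 3, by omega⟩
  simp only [show m + 3 - 3 = m by omega, show m + 3 - 2 = m + 1 by omega] at *
  have l : ∀ {i : ℕ} {a : G}, a ∈ gam G i → 2 ≤ i → a ∈ K G (m + 1) := fun ha hi => gam_le_K _ (gam_anti hi ha)
  have c : ∀ a ∈ gam G (m + 1), ∀ r ∈ K G (m + 1), a * r = r * a := fun a ha r hr => hl.le hr a ha
  have a1 : ∀ r ∈ K G (m + 1), ∀ t, ⁅w, r * t⁆ = ⁅w, r⁆ * ⁅w, t⁆ := fun r hr t => by
    calc _ = ⁅w, r⁆ * (r * ⁅w, t⁆) * r⁻¹ := by simp only [commutatorElement_def]; group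
      _ = _ := by rw [← c _ (comm_mem hw t) r hr]; group
  have a2 : ∀ r ∈ K G (m + 1), ⁅w, k r⁆ = k ⁅w, r⁆ := fun r hr => by
    rw [hk.comm (l hw (by omega)) hr]
    calc _ = w * (w⁻¹ * k w) * (w⁻¹ * k w)⁻¹ * k r * w⁻¹ * (k r)⁻¹ := by simp only [commutatorElement_def]; group
      _ = _ := by
        rw [mul_assoc _ _ (k r), c _ (inv_mem (e1 w hw)) _ (hm r hr)]; simp only [commutatorElement_def]; group
  have a3 : HomOn (K G (m + 1)) fun r => ⁅w, r⁆ := fun r hr t _ => a1 r hr t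
  have b1 : x * k x ∈ gam G 3 := h3 (mul_mem hx (hm x hx)) (by rw [a1 x hx, a2 x hx, e2, mul_inv_cancel])
  obtain ⟨g, hg, hg'⟩ := h.exists_not_mem (i := 2) le_rfl (by omega)
  obtain ⟨j, hj⟩ := mem_zpowers_iff.1 (e3 _ (comm_mem hw g))
  have hg2 := l hg le_rfl
  have b2 : (g * x ^ j)⁻¹ * k g ∈ gam G 3 := h3 (mul_mem (inv_mem (mul_mem hg2 (zpow_mem hx j))) (hm g hg2)) (by
    have := a3.inv_mul (mul_mem hg2 (zpow_mem hx j)) (hm g hg2)
    have b := a3.zpow hx j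
    rw [this, a1 g hg2, b, hj, a2 g hg2]; group)
  have b3 : q 2 (k x) = q 2 x ^ (-1 : ℤ) := by
    rw [zpow_neg_one, ← map_inv, eq_comm, q_eq, inv_inv]; exact gam_anti (by omega) b1
  obtain ⟨v, h4, h5, -, h7⟩ := chain h hk hx b3 (i := 3) (by omega) (m - 3) (e := 1 * -1)
    (fun j a b => by rwa [K_eq h hn (by omega) (by omega)]) (l (comm_mem hg x) (by omega)) (comm_mem hg x)
    (h.comm_not_mem le_rfl hx' hg hg') (by
      rw [hk.comm hg2 hx, ← (bil (v := g) (t := x⁻¹) hg (zpow_one _).symm (by simp)).2,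
        show k g = g * x ^ j * ((g * x ^ j)⁻¹ * k g) by group, show k x = x⁻¹ * (x * k x) by group]
      have d : ∀ {a : G}, a ∈ gam G 3 → q 4 a ∈ center _ := fun ha => mem_center_iff.2 fun b =>
        QuotientGroup.induction_on b (q_comm ha)
      have d1 := mem_center_iff.1 (d b1)
      have d2 := mem_center_iff.1 (d b2)
      generalize x * k x = a at d1
      generalize (g * x ^ j)⁻¹ * k g = b at d2
      simp only [commutatorElement_def, map_mul, map_zpow, map_inv]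
      calc _ = q 4 g * q 4 x ^ j * (q 4 b * ((q 4 x)⁻¹ * q 4 a)) * (q 4 b)⁻¹ * ((q 4 g * q 4 x ^ j)⁻¹ * (q 4 a)⁻¹) *
            q 4 x := by group
        _ = q 4 g * q 4 x ^ j * (q 4 x)⁻¹ * (q 4 a * (q 4 g * q 4 x ^ j)⁻¹) * (q 4 a)⁻¹ * q 4 x := by
          rw [← d2]; group
        _ = _ := by rw [← d1]; group)
  rw [show 3 + (m - 3) = m by omega] at h4 h5 h7
  rw [← q_eq.2 (e1 v h4), show m - 3 = 2 * (r - 3) by omega, pow_mul] at h7
  refine h5 (q_sq h.pg h2 (q_one.1 ?_))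
  rw [map_mul, mul_eq_one_iff_eq_inv]
  simpa using h7

end CA.H8Mx
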