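import Cfsg.Agent.Lib.Fus.H8Mx

/-! Transvections in groups with a strongly `p`-embedded subgroup; essential subgroups of order `p ^ 3`. -/

set_option autoImplicit false

namespace CA.H8Tv
open Subgroup Cfsg CA.Fus CA.AmbSyl CA.AmbCore Relation
open Cfsg.FusionSystem (normalizerIn centralizerIn)
open scoped commutatorElement

variable {Ω : Type*} [Group Ω] {S Q E H V : Subgroup Ω} {F : FusionSystem S} {p : ℕ} {a w z : Ω}

/-- ambient transvections -/
structure TA (p : ℕ) {Q : Subgroup Ω} (α : MulAut Q) (a : Ω) : Prop where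
  mem : a ∈ Q
  pow : a ^ p = 1
  fix : act α a = a
  dif : ∀ q ∈ Q, q⁻¹ * act α q ∈ zpowers a

theorem TA.conj {α : MulAut Q} (h : TA p α a) (g : MulAut Q) : TA p (g * α * g⁻¹) (act g a) where
  mem := act_mem g h.mem
  pow := by rw [← (homOn_act g).pow h.mem, h.pow, (homOn_act g).one]
  fix := by rw [act_mul, act_mul, act_inv_act, h.fix]
  dif := fun q hq => by
    obtain ⟨k, hk⟩ := mem_zpowers_iff.1 (h.dif _ (act_mem g⁻¹ hq))
    refine mem_zpowers_iff.2 ⟨k, ?_⟩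
    rw [← (homOn_act g).zpow h.mem, hk, (homOn_act g).inv_mul (act_mem _ hq) (act_mem _ (act_mem _ hq)), act_act_inv,
      act_mul, act_mul]

theorem act_zp {α : MulAut Q} (ha : a ∈ Q) (h : act α a = a) (hz : z ∈ zpowers a) : act α z = z := by
  obtain ⟨k, rfl⟩ := mem_zpowers_iff.1 hz
  rw [(homOn_act α).zpow ha, h]

variable [hp : Fact p.Prime]

theorem TA.pair [Finite Q] (hQ : IsPGroup p Q) {A : Subgroup (MulAut Q)} {α t : MulAut Q} (h : TA p α a) (hα : α ∈ A)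
    (ht : t ∈ A) (h1 : IsPGroup p (zpowers t)) (h2 : act t a = a) : ∃ U, U ≤ A ∧ IsPGroup p U ∧ t ∈ U ∧ α ∈ U := by
  have l : ∀ β : MulAut Q, act β a = a → β ∈ stabA Q (zpowers a) := fun β e =>
    stabA_zp h.mem (by rw [e]; exact mem_zpowers a)
  obtain ⟨U, h3, h4⟩ := exists_sylIn_ge (L := A ⊓ stabA Q (zpowers a)) h1 (zpowers_le.2 ⟨ht, l t h2⟩)
  refine ⟨U, h3.le.trans inf_le_left, h3.pg, h4 (mem_zpowers t), pCoreOf_le_syl h3
    (mem_pCore_of_frat hQ ⟨hα, l α h.fix⟩ bot_le ((ReflTransGen.single ⟨?_, inf_le_right, fun x _ hx => ?_⟩).tail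
      ⟨inf_le_right, ?_, fun x hx _ => h.dif x hx⟩))⟩
  · rw [stabA_self]; exact le_top
  · rw [stabA_bot]; exact le_top
  · rw [act_zp h.mem h.fix hx, inv_mul_cancel]; exact one_mem _

theorem card_lt [Finite Q] (hQ : IsPGroup p Q) {A T Y : Subgroup (MulAut Q)} (hT : SylIn p T A) (hY : Y < A)
    (hc : Ctl ⊥ T A Y) {x : MulAut Q} (hx : TA p x a) (hxT : x ∈ T) (h1 : x ≠ 1) (hH : H ≤ Q) (hH' : p < Nat.card H)
    (hd : ∀ t ∈ T, ∀ q ∈ Q, q⁻¹ * act t q ∈ H) : Nat.card T < Nat.card H := by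
  have := fin_le hH
  have K0 : ∀ u ∈ T, u ≠ 1 → ∀ g ∈ A, g * u * g⁻¹ ∈ T → g ∈ Y := fun u hu h1 g hg e =>
    hc.conj_mem hT le_normalizer_of_normal
      (bot_lt_iff_ne_bot.2 (zpowers_ne_bot.2 h1)) (zpowers_le.2 hu) hg (by rw [Amb.cj_zpowers]; exact zpowers_le.2 e)
  have K : ∀ U ≤ A, IsPGroup p U → ∀ u ∈ T, u ≠ 1 → ∀ g ∈ A, ∀ g' ∈ A, g * u * g⁻¹ ∈ U → g' * x * g'⁻¹ ∈ U →
      g⁻¹ * g' ∈ Y := fun U hU hU' u hu h2 g hg g' hg' e e' => by
    obtain ⟨k, hk, h3⟩ := hT.exists_conj_le hU' hU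
    have h4 := K0 u hu h2 _ (mul_mem hk hg) (by simpa [mul_assoc] using Amb.cj_le_iff'.1 h3 _ e)
    have h5 := K0 x hxT h1 _ (mul_mem hk hg') (by simpa [mul_assoc] using Amb.cj_le_iff'.1 h3 _ e')
    simpa [mul_assoc] using mul_mem (inv_mem h4) h5
  obtain ⟨m, hm, hm'⟩ := SetLike.exists_of_lt hY
  have hx' := hx.conj m
  have pg : ∀ u ∈ T, ∀ g : MulAut Q, IsPGroup p (zpowers (g * u * g⁻¹)) := fun u hu g => by
    obtain ⟨k, hk⟩ := isPGroup_iff_mem.1 hT.pg u hu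
    exact isPGroup_zpowers (k := k) (by rw [conj_pow, hk]; simp)
  have cA : ∀ g ∈ A, g * x * g⁻¹ ∈ A := fun g hg => mul_mem (mul_mem hg (hT.le hxT)) (inv_mem hg)
  let f : T → H := fun t => ⟨_, hd t t.2 _ hx'.mem⟩
  have hf : Function.Injective f := fun s t e => by_contra fun e' => by
    have h2 : act s.1 (act m a) = act t.1 (act m a) := mul_left_cancel (congrArg Subtype.val e)
    have h3 := mul_mem (inv_mem t.2) s.2
    obtain ⟨U, h4, h5, h6, h7⟩ := hx'.pair hQ (cA m hm) (hT.le h3) (hT.pg.to_le (zpowers_le.2 h3))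
      (by rw [act_mul, h2, act_inv_act])
    have := K U h4 h5 _ h3 (fun e => e' (Subtype.ext (inv_mul_eq_one.1 e).symm)) 1 (one_mem _) m hm
      (by simpa using h6) h7
    exact hm' (by simpa using this)
  refine not_le.1 fun hle => ?_
  have hs := (hf.bijective_of_nat_card_le hle).2
  obtain ⟨h, hh, h2, h3⟩ : ∃ h ∈ H, h ≠ 1 ∧ act (m * x * m⁻¹) h = h := by
    have := fin_le (zpowers_le.2 hx'.mem)
    by_contra! e
    refine hH'.not_ge ((Nat.card_le_card_of_injective (β := zpowers (act m a))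
      (fun h : H => ⟨_, hx'.dif h (hH h.2)⟩) fun s t e' => by_contra fun e'' => ?_).trans ?_)
    · refine e _ (mul_mem s.2 (inv_mem t.2)) (fun e => e'' (Subtype.ext (mul_inv_eq_one.1 e))) ?_
      have e1 : (s : Ω)⁻¹ * act (m * x * m⁻¹) (s : Ω) = (t : Ω)⁻¹ * act (m * x * m⁻¹) (t : Ω) := congrArg Subtype.val e'
      rw [(homOn_act _).mul_inv (hH s.2) (hH t.2), eq_mul_of_inv_mul_eq e1]
      group
    · rw [Nat.card_zpowers]
      exact Nat.le_of_dvd hp.out.pos (orderOf_dvd_of_pow_eq_one hx'.pow)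
  obtain ⟨t, ht⟩ := hs ⟨h, hh⟩
  have h4 : act t.1 (act m a) = act m a * h := (eq_mul_of_inv_mul_eq (congrArg Subtype.val ht))
  have h5 : t.1 ≠ 1 := fun e => h2 (by rw [e, act_one] at h4; simpa using h4)
  have h6 := mul_mem (hT.le t.2) hm
  obtain ⟨U, h7, h8, h9, h10⟩ := (hx.conj (t * m)).pair hQ (cA _ h6) (cA m hm) (pg x hxT m)
    (by rw [act_mul t.1 m, h4, (homOn_act _).mul hx'.mem (hH hh), hx'.fix, h3])
  have h11 := K U h7 h8 x hxT h1 m hm _ h6 h9 h10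
  obtain ⟨y, hy, h12⟩ := (hT.mono (hc.le (bot_lt_iff_ne_bot.2 fun e => h1 (e.le hxT)) hT.le) hY.le).exists_conj_le
    (pg t t.2 m⁻¹) (zpowers_le.2 (by simpa [mul_assoc] using h11))
  have h13 := K0 t t.2 h5 _ (mul_mem (hY.le hy) (inv_mem hm))
    (by simpa [mul_assoc] using Amb.cj_le_iff'.1 h12 _ (mem_zpowers _))
  exact hm' (by simpa using mul_mem (inv_mem h13) hy)

variable [Finite S]

theorem card_norm (hS : IsPGroup p S) (hF : F.IsSaturated p) (hE : F.IsEssential p E)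
    (hab : E ≤ centralizer (E : Set Ω)) (h3 : Nat.card E = p ^ 3) (hw : w ∈ S) (hn : w ∈ normalizer (E : Set Ω))
    (hw' : w ∉ E) (hz : z ∈ E) (hz1 : z ^ p = 1) (hz2 : w * z * w⁻¹ = z)
    (hz3 : ∀ q ∈ E, q⁻¹ * (w * q * w⁻¹) ∈ zpowers z) : Nat.card (normalizerIn S E) = p ^ 4 := by
  have l := lr_of_ess hS hF hE
  have := fin_le l.le
  have hp' := hS.to_le l.le
  obtain ⟨-, -, Y, hY⟩ := (essential_iff hS).1 hE
  have hT := sat_syl hS hF l.fn
  obtain ⟨h1, Y', h2, h4⟩ := hY.exists_ctl (norm_inn _ _) hT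
  have h5 : Inn E = ⊥ := eq_bot_iff.2 fun α hα => by
    obtain ⟨g, hg, e⟩ := mem_inn.1 hα
    exact aut_eq_one_iff.2 fun x hx => by rw [e x hx, ← hab hg x hx, mul_inv_cancel_right]
  rw [h5] at h1 h4
  have h6 := commutator_lt (hS.to_le (normIn_le S E)) hp' (normIn_le_norm S E) fun e => hw' (by
    rw [e] at h3; exact absurd (h3.symm.trans card_bot) (Nat.one_lt_pow (by omega) hp.out.one_lt).ne')
  obtain ⟨M, h7, -, h8⟩ := PGBasic.exists_index_eq_of_ne_top hp' (H := ⁅E, normalizerIn S E⁆.subgroupOf E)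
    fun e => h6.not_ge (subgroupOf_eq_top.1 e)
  have h9 : Nat.card (M.map E.subtype) = p ^ 2 := by
    have := M.card_mul_index
    rw [h8, h3, pow_succ] at this
    rw [card_map_of_injective E.subtype_injective, Nat.eq_of_mul_eq_mul_right hp.out.pos this]
  have h10 := card_lt hp' hT h2 h4 (x := cjA E w) (a := z) ⟨hz, hz1, by rw [act_cjA hn hz, hz2],
    fun q hq => by rw [act_cjA hn hq]; exact hz3 q hq⟩ (cjA_mem_autInd hw hn)
    (fun e => hw' (l.cent hw ((cjA_eq_one_iff hn).1 e))) (map_subtype_le M)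
    (by rw [h9]; exact lt_self_pow₀ hp.out.one_lt one_lt_two) fun t ht q hq => by
      obtain ⟨g, hg, e⟩ := mem_autInd.1 ht
      have h11 : q⁻¹ * act t q ∈ ⁅E, normalizerIn S E⁆ := by
        rw [e q hq, show q⁻¹ * (g * q * g⁻¹) = ⁅q⁻¹, g⁆ by rw [commutatorElement_def]; group]
        exact commutator_mem_commutator (inv_mem hq) hg
      exact ⟨⟨_, h6.le h11⟩, h7 h11, rfl⟩
  obtain ⟨k, hk⟩ := IsPGroup.iff_card.1 hT.pg
  rw [h9, hk, Nat.pow_lt_pow_iff_right hp.out.one_lt] at h10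
  have h11 : k ≠ 0 := by
    rintro rfl
    exact h1.ne' (card_eq_one.1 hk)
  rw [card_normIn, hk, le_antisymm (centric_self_le hE.1) (le_inf l.le hab), h3, show k = 1 by omega]
  ring

theorem mem_Nf_of (hS : IsPGroup p S) (hF : F.IsSaturated p) (hQ : F.IsFullyNormalized Q) {B : Subgroup (MulAut Q)}
    (hB : B ≤ F.autGroup Q) (h1 : autInducedBy S Q ≤ B) {κ : MulAut Q} (hκ : κ ∈ B) (hw : w ∈ normalizerIn S Q)
    (h : ReflTransGen (St B (cjA Q w)) ⊥ Q) : w ∈ Nf S Q (act κ) :=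
  have := fin_le hQ.1
  (mem_Nf_act hw).2 (pCoreOf_le_syl ((sat_syl hS hF hQ).mono h1 hB) (conj_mem_of_norm (norm_pCoreOf p B hκ)
    (mem_pCore_of_frat (hS.to_le hQ.1) (h1 (cjA_mem_autInd hw.1 hw.2)) bot_le h)))

omit [Finite S] in
theorem rel_of_card {A B : Subgroup Ω} {k : ℕ} (h : A ≤ B) (h1 : Nat.card A = p ^ k) (h2 : Nat.card B = p ^ (k + 1)) :
    A.relIndex B = p :=
  Nat.eq_of_mul_eq_mul_left (pow_pos hp.out.pos k) (by rw [← pow_succ, ← h2, ← h1, Amb.card_mul_relIndex h])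

theorem exists_inv (hS : IsPGroup p S) (hF : F.IsSaturated p) (h2 : p ≠ 2) (hE : F.IsEssential p E)
    (hab : E ≤ centralizer (E : Set Ω)) (h3 : Nat.card E = p ^ 3) (hV : V ≤ S) (hVn : S ≤ normalizer (V : Set Ω))
    (hVa : V ≤ centralizer (V : Set Ω)) (hV3 : Nat.card V = p ^ 3) (hVE : V ≤ normalizer (E : Set Ω))
    (h5 : p ^ 4 < Nat.card S) (hw : w ∈ V) (hw' : w ∉ E) (hz : z ∈ E) (hz1 : z ^ p = 1) (hz2 : w * z * w⁻¹ = z)
    (hz3 : ∀ q ∈ E, q⁻¹ * (w * q * w⁻¹) ∈ zpowers z) :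
    ∃ κ ∈ F.autGroup V, (orderOf κ).Coprime p ∧ (∀ r ∈ zpowers z, act κ r = r⁻¹) ∧
      (∀ d ∈ E ⊓ V, d⁻¹ * act κ d ∈ zpowers z) ∧ ∀ v ∈ V, v⁻¹ * act κ v ∈ E ⊓ V := by
  have l := lr_of_ess hS hF hE
  have := fin_le l.le
  have := fin_le hV
  have hn := hVE hw
  have c4 := card_norm hS hF hE hab h3 (hV hw) hn hw' hz hz1 hz2 hz3
  have EN := le_normIn l.le
  have VN : V ≤ normalizerIn S E := le_inf hV hVE
  have NS := normIn_le S E
  have NE := normIn_le_norm S E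
  have i1 := rel_of_card EN h3 c4
  have i2 := rel_of_card VN hV3 c4
  have e1 := PGBasic.sup_zpowers_eq_of_relIndex_prime hp.out i1 EN (VN hw) hw'
  have cD : Nat.card ↥(E ⊓ V) = p ^ 2 := by
    have := Amb.card_sup_mul_card_inf hVE
    rw [le_antisymm (sup_le VN EN) (e1.ge.trans (sup_le le_sup_right (le_sup_of_le_left (zpowers_le.2 hw)))), c4, h3,
      hV3, inf_comm] at this
    exact Nat.eq_of_mul_eq_mul_left (pow_pos hp.out.pos 4) (by rw [this]; ring)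
  have i3 := rel_of_card inf_le_left cD h3
  have i4 := rel_of_card inf_le_right cD hV3
  obtain ⟨y, a, b, C, ez, T⟩ := l.tv hS hF (le_centralizer_iff_isMulCommutative.1 hab) (hV hw) hn hw' e1.ge hz hz1 hz2 hz3
  obtain ⟨β, hβ, b1, b2, b3, b4⟩ := T.neg
  have hb := homOn_act β
  have aV : a ∈ V := by
    rw [show a = b⁻¹ * w * b * w⁻¹ by rw [mul_assoc, mul_assoc, ← mul_assoc w, T.xb]; group]
    exact mul_mem (conj_mem_of_norm' (hVn (l.le T.bQ)) hw) (inv_mem hw)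
  have b5 : ∀ r ∈ zpowers z, act β r = r⁻¹ := fun r hr => by
    obtain ⟨k, rfl⟩ := mem_zpowers_iff.1 (ez ▸ hr)
    rw [hb.zpow T.aQ, b1, inv_zpow]
  have b6 : (orderOf β).Coprime p := ((Nat.coprime_primes Nat.prime_two hp.out).2 h2.symm).coprime_dvd_left
    (orderOf_dvd_of_pow_eq_one (aut_eq_one_iff.2 fun q hq => by
      obtain ⟨i, j, c, hc, rfl⟩ := T.dec q hq
      have m1 := fun i : ℤ => zpow_mem T.aQ i
      have m2 := fun i : ℤ => zpow_mem T.bQ i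
      simp only [pow_two, act_mul, hb.mul (mul_mem (m1 _) (m2 _)) (T.CQ hc), hb.mul (m1 _) (m2 _), hb.zpow T.aQ,
        hb.zpow T.bQ, b1, b2, b3 c hc, inv_zpow', neg_neg]))
  have b7 : ∀ t ∈ normalizerIn S E, β * cjA E t = cjA E t * β := fun t ht => by
    obtain ⟨u, hu, m, rfl⟩ := (PGBasic.mem_sup_zpowers hn).1 (e1.ge ht)
    rw [(homOn_cjA E).mul (le_normalizer hu) (zpow_mem hn m), (cjA_eq_one_iff (le_normalizer hu)).2 (hab hu), one_mul,
      (homOn_cjA E).zpow hn]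
    exact (show Commute β _ from b4).zpow_right m
  obtain ⟨δ, hδ, d1, d2⟩ := ext_p' hS hF (sc_top F) l.fn l.le hβ b6 (centralizer_le_normalizer _ fun γ hγ => by
    obtain ⟨t, ht, rfl⟩ := mem_autInd'.1 hγ
    exact (b7 t ht).symm)
  have hd := homOn_act δ
  have d3 : ∀ t ∈ normalizerIn S E, t⁻¹ * act δ t ∈ E := fun t ht =>
    l.cent (NS (mul_mem (inv_mem ht) (act_mem δ ht))) fun x hx => by
      have h6 := act_mem β⁻¹ hx
      have h7 := hd.conj ht (EN h6)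
      rw [d2 _ (conj_mem_of_norm ht.2 h6), d2 _ h6, act_act_inv, ← act_cjA ht.2 h6, ← act_mul, b7 t ht, act_mul,
        act_act_inv, act_cjA ht.2 hx] at h7
      calc _ = t⁻¹ * (t * x * t⁻¹) * act δ t := by group
        _ = _ := by rw [h7]; group
  have d4 : ∀ d ∈ E ⊓ V, d⁻¹ * act δ d ∈ zpowers z := fun d hd' => by
    obtain ⟨r, hr, c, hc, rfl⟩ := T.fdec d hd'.1 (by rw [hVa hd'.2 w hw, mul_inv_cancel_right])
    have h6 : r ∈ E := zpowers_le.2 T.aQ hr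
    rw [d2 _ hd'.1, hb.mul h6 (T.CQ hc), b5 r (ez ▸ hr), b3 c hc, mul_inv_rev, mul_assoc, ← mul_assoc r⁻¹,
      hab (T.CQ hc) _ (mul_mem (inv_mem h6) (inv_mem h6)), inv_mul_cancel_left, ← ez]
    exact mul_mem (inv_mem hr) (inv_mem hr)
  have zD : zpowers z ≤ E ⊓ V := ez ▸ zpowers_le.2 ⟨T.aQ, aV⟩
  have DN : E ⊓ V ≤ normalizerIn S E := inf_le_left.trans EN
  have d5 : δ ∈ stabA _ (E ⊓ V) := mem_stabA_of_maps DN fun d hd' => by
    simpa using mul_mem hd' (zD (d4 d hd'))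
  have d6 : δ ∈ stabA _ V := mem_stabA_of_maps VN fun v hv => by_contra fun hv' => by
    have lt : normalizerIn S E < S := NS.lt_of_ne fun e => h5.ne (by rw [← c4, e])
    obtain ⟨t, ht, ht1, ht2⟩ := exists_mem_normalizer_not_mem hS lt
    have eD : E ⊓ V = zc (normalizerIn S E) := by
      have h6 : E ⊓ V ≤ zc (normalizerIn S E) := le_inf DN (by
        rw [← e1, Amb.centralizer_sup]
        exact le_inf (inf_le_left.trans hab) (inf_le_right.trans (hVa.trans (centralizer_le (zpowers_le.2 hw)))))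
      refine ((PGBasic.eq_or_eq_of_relIndex_prime hp.out i3 h6 fun g hg =>
        l.cent (NS hg.1) (centralizer_le EN hg.2)).resolve_right fun e => hw' (l.cent (hV hw) fun g hg => ?_)).symm
      exact ((e.ge hg).2 w (VN hw)).symm
    have tD : t ∈ normalizer ((E ⊓ V : Subgroup Ω) : Set Ω) := eD ▸ Amb.norm_inf le_rfl (Amb.norm_centralizer le_rfl) ht1
    obtain ⟨x, hx, hx'⟩ := SetLike.not_le_iff_exists.1 fun e : E ≤ V => hw' ((eq_of_le_of_card_ge e (by rw [h3, hV3])).ge hw)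
    have e2 := PGBasic.sup_zpowers_eq_of_relIndex_prime hp.out i3 inf_le_left hx fun e => hx' e.2
    have hN := act_mem δ (VN hv)
    obtain ⟨u, hu, m, em⟩ := (PGBasic.mem_sup_zpowers (hVn (NS hN))).1
      ((PGBasic.sup_zpowers_eq_of_relIndex_prime hp.out i2 VN hN hv').ge (EN hx))
    have f1 := comm_of_index_p hS VN NS i2 ht (hVn ht) ht1 x (EN hx)
    have f2 := comm_of_index_p hS inf_le_right hV i4 ht tD (hVn ht)
    have f3 : x⁻¹ * (t * x * t⁻¹) ∉ E ⊓ V := fun e => ht2 ⟨ht, mem_normalizer_of_maps fun g hg => by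
      refine (homOn_cj _ t).maps_sup (Q' := E) (fun g hg => (conj_mem_of_norm tD hg).1) (fun g hg => ?_) g (e2.ge hg)
      obtain ⟨k, rfl⟩ := mem_zpowers_iff.1 hg
      rw [cj_apply, ← conj_zpow]
      exact zpow_mem (by simpa using mul_mem hx e.1) k⟩
    obtain ⟨φ, eφ⟩ : ∃ φ, φ = x⁻¹ * (t * x * t⁻¹) := ⟨_, rfl⟩
    rw [← eφ] at f1 f3
    have f4 : ∀ i : ℕ, (φ ^ i)⁻¹ * (x⁻¹ * (t ^ i * x * (t ^ i)⁻¹)) ∈ E ⊓ V := fun i => by
      induction i with
      | zero => simp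
      | succ i ih =>
        have := mul_mem ih (f2 _ (by simpa using mul_mem (pow_mem f1 i) ih.2 : x⁻¹ * (t ^ i * x * (t ^ i)⁻¹) ∈ V))
        convert this using 1
        rw [pow_succ' φ, pow_succ' t]
        generalize φ ^ i = r
        rw [eφ]; group
    obtain ⟨d, hd', k, ek⟩ := (PGBasic.mem_sup_zpowers (centralizer_le_normalizer _ (centralizer_le inf_le_right (hVa f1)))).1
      ((PGBasic.sup_zpowers_eq_of_relIndex_prime hp.out i4 inf_le_right f1 f3).ge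
        (conj_mem_of_norm' (hVn (l.le hx)) (inv_mem hu)))
    obtain ⟨i, hi⟩ := (isOfFinOrder_iff_pow_eq_one.2 (by
      obtain ⟨j, hj⟩ := isPGroup_iff_mem.1 hS φ (hV f1)
      exact ⟨_, pow_pos hp.out.pos j, hj⟩) : IsOfFinOrder φ).mem_powers_iff_mem_zpowers.2 (zpow_mem_zpowers φ k)
    let A := (homOn_act δ⁻¹).pre V
    have a1 : E ⊓ V ≤ A := fun g hg => ⟨DN hg, (stab_map (inv_mem d5) hg).2⟩
    have a2 : act δ v ∈ A := ⟨hN, by rw [act_inv_act]; exact hv⟩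
    have a3 : ∀ g ∈ E, cj (t ^ i) g ∈ A := fun g hg => by
      refine (homOn_cj _ _).maps_sup (fun g hg => a1 (conj_mem_of_norm (pow_mem tD i) hg)) (fun g hg => ?_) g (e2.ge hg)
      obtain ⟨j, rfl⟩ := mem_zpowers_iff.1 hg
      rw [cj_apply, ← conj_zpow]
      refine zpow_mem ?_ j
      have := mul_mem (mul_mem (a1 (inv_mem hd')) (zpow_mem a2 m)) (a1 (f4 i))
      convert this using 1
      have hi' : φ ^ i = φ ^ k := hi
      rw [hi', ← inv_mul_eq_of_eq_mul em, ← inv_mul_eq_of_eq_mul ek]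
      calc _ = d⁻¹ * x * (d * x⁻¹) * (t ^ i * x * (t ^ i)⁻¹) := by
            rw [hab (inv_mem hx) d hd'.1]; group
        _ = _ := by group
    have := hE.2.1.2 V (((mor_cj F l.le (pow_mem ht i)).comp ((mem_aut NS).1 (inv_mem hδ))
      fun g hg => (a3 g hg).1).img_eq_of_card (fun g hg => (a3 g hg).2) (by rw [h3, hV3]) ▸ Mor.isConj
        ((mor_cj F l.le (pow_mem ht i)).comp ((mem_aut NS).1 (inv_mem hδ)) fun g hg => (a3 g hg).1))
    rw [normIn_eq_of_le hVn, c4] at this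
    exact h5.not_ge this
  refine ⟨resA V δ, resA_mem_aut NS VN d6 hδ, d1.coprime_dvd_left ((homOn_resA VN).orderOf_dvd d6), fun r hr => ?_,
    fun d hd' => ?_, fun v hv => ?_⟩
  · rw [act_resA VN d6 (zD hr).2, d2 r (zD hr).1, b5 r hr]
  · rw [act_resA VN d6 hd'.2]; exact d4 d hd'
  · rw [act_resA VN d6 hv]; exact ⟨d3 v (VN hv), V.mul_mem (inv_mem hv) (stab_map d6 hv)⟩

end CA.H8Tv
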